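import Groth.Agent.KoszTwLib.Tensor
import Groth.Agent.Omega.Stalks
import Groth.Prelude.Def_KLin
import Groth.Prelude.Def_ConnSh

/-!
# Maps out of tensor products of modules, and tensoring locally split sequences
-/

set_option autoImplicit false
set_option backward.isDefEq.respectTransparency false
set_option backward.isDefEq.respectTransparency.types false
set_option linter.style.haveILetI false

universe u

open CategoryTheory CategoryTheory.Limits AlgebraicGeometry TopologicalSpace Opposite TensorProduct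
open Groth.Agent.KoszTwLib Groth.Agent.PullStalk.Sky Groth.Agent.PullStalk.Exact

noncomputable section

namespace Groth.Agent.DefoShLib

variable {X : Scheme.{u}} {M M' M'' N P : X.Modules}

/-- A morphism on sections, linearly. -/
def secLin (φ : M ⟶ M') (V : X.Opens) : Γ(M, V) →ₗ[Γ(X, V)] Γ(M', V) where
  toFun := φ.app V
  map_add' := map_add _
  map_smul' r m := Scheme.Modules.Hom.app_smul φ r m

theorem secLin_apply (φ : M ⟶ M') (V : X.Opens) (m : Γ(M, V)) : secLin φ V m = φ.app V m := rfl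

/-- Morphisms commute with restriction. -/
theorem app_res (φ : M ⟶ M') {U V : X.Opens} (h : V ≤ U) (m : Γ(M, U)) :
    φ.app V (M.presheaf.map (homOfLE h).op m) = M'.presheaf.map (homOfLE h).op (φ.app U m) :=
  NatTrans.naturality_apply φ.mapPresheaf (homOfLE h).op m

/-- Pure tensors read in the sectionwise tensor product. -/
def toT' (M N : X.Modules) (U : X.Opens) (z : TV M N U) : Γ(CohB1.tensorMod M N, U) :=
  toT M N U (ofTV M N U z)

theorem toT'_add (U : X.Opens) (z z' : TV M N U) : toT' M N U (z + z') = toT' M N U z + toT' M N U z' :=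
  map_add (toT M N U) (ofTV M N U z) (ofTV M N U z')

theorem toT'_zero (U : X.Opens) : toT' M N U 0 = 0 := map_zero (toT M N U)

theorem toT'_tmul (U : X.Opens) (m : Γ(M, U)) (n : Γ(N, U)) :
    toT' M N U (m ⊗ₜ[Γ(X, U)] n) = SecTwist.tmul M N U m n := rfl

/-- Restriction of the sectionwise tensor product. -/
def resTV (M N : X.Modules) {U V : X.Opens} (h : V ≤ U) (z : TV M N U) : TV M N V :=
  (CohB1.tensorPre M N).map (homOfLE h).op (ofTV M N U z)

theorem resTV_add {U V : X.Opens} (h : V ≤ U) (z z' : TV M N U) :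
    resTV M N h (z + z') = resTV M N h z + resTV M N h z' :=
  map_add ((CohB1.tensorPre M N).map (homOfLE h).op).hom (ofTV M N U z) (ofTV M N U z')

theorem resTV_zero {U V : X.Opens} (h : V ≤ U) : resTV M N h 0 = 0 :=
  map_zero ((CohB1.tensorPre M N).map (homOfLE h).op).hom

theorem resTV_tmul {U V : X.Opens} (h : V ≤ U) (m : Γ(M, U)) (n : Γ(N, U)) :
    resTV M N h (m ⊗ₜ[Γ(X, U)] n) =
      M.presheaf.map (homOfLE h).op m ⊗ₜ[Γ(X, V)] N.presheaf.map (homOfLE h).op n := rfl

theorem res_toT' {U V : X.Opens} (h : V ≤ U) (z : TV M N U) :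
    (CohB1.tensorMod M N).presheaf.map (homOfLE h).op (toT' M N U z) = toT' M N V (resTV M N h z) := by
  induction z using TensorProduct.induction_on with
  | zero => rw [toT'_zero, map_zero, resTV_zero, toT'_zero]
  | tmul m n => rw [toT'_tmul, resTV_tmul, toT'_tmul, KoszTwLib.tmul_res]
  | add a b ha hb => rw [toT'_add, map_add, resTV_add, toT'_add, ha, hb]

theorem toT'_locally_surjective (U : X.Opens) (s : Γ(CohB1.tensorMod M N, U)) (x : X) (hx : x ∈ U) :
    ∃ (W : X.Opens) (hW : W ≤ U) (z : TV M N W), x ∈ W ∧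
      toT' M N W z = (CohB1.tensorMod M N).presheaf.map (homOfLE hW).op s :=
  toT_locally_surjective M N U s x hx

theorem toT'_locally_injective (U : X.Opens) (z : TV M N U) (hz : toT' M N U z = 0) (x : X) (hx : x ∈ U) :
    ∃ (W : X.Opens) (hW : W ≤ U), x ∈ W ∧ resTV M N hW z = 0 :=
  toT_locally_injective M N U (ofTV M N U z) hz x hx

/-- Morphisms out of a tensor product are determined by their values on pure tensors. -/
theorem hom_ext_tmul {φ ψ : CohB1.tensorMod M N ⟶ P}
    (h : ∀ (U : X.Opens) (m : Γ(M, U)) (n : Γ(N, U)),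
      φ.app U (SecTwist.tmul M N U m n) = ψ.app U (SecTwist.tmul M N U m n)) : φ = ψ := by
  refine Scheme.Modules.hom_ext _ _ fun U => ?_
  ext s
  have hz : ∀ (W : X.Opens) (z : TV M N W), φ.app W (toT' M N W z) = ψ.app W (toT' M N W z) := by
    intro W z
    induction z using TensorProduct.induction_on with
    | zero => rw [toT'_zero, map_zero, map_zero]
    | tmul m n => exact h W m n
    | add a b ha hb => rw [toT'_add, map_add, map_add, ha, hb]
  rw [← sub_eq_zero]
  refine eq_zero_of_locally P U _ fun x hx => ?_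
  obtain ⟨W, hW, z, hxW, e⟩ := toT'_locally_surjective U s x hx
  refine ⟨W, hW, hxW, ?_⟩
  rw [map_sub, ← app_res, ← app_res, ← e, hz, sub_self]

/-- Tensoring on the right. -/
abbrev T (N : X.Modules) (φ : M ⟶ M') : CohB1.tensorMod M N ⟶ CohB1.tensorMod M' N :=
  KoszTw.tensorMap φ (𝟙 N)

theorem T_tmul (φ : M ⟶ M') (U : X.Opens) (m : Γ(M, U)) (n : Γ(N, U)) :
    (T N φ).app U (SecTwist.tmul M N U m n) = SecTwist.tmul M' N U (φ.app U m) n :=
  KoszTw.tensorMap_tmul φ (𝟙 N) U m n

theorem T_id : T N (𝟙 M) = 𝟙 _ := KoszTw.tensorMap_id M N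

theorem T_comp (φ : M ⟶ M') (ψ : M' ⟶ M'') : T N (φ ≫ ψ) = T N φ ≫ T N ψ := by
  rw [T, T, T, ← KoszTw.tensorMap_comp, Category.id_comp]

/-- Pure tensors are additive in the first variable. -/
theorem tmul_add_left (U : X.Opens) (m m' : Γ(M, U)) (n : Γ(N, U)) :
    (SecTwist.tmul M N U (m + m') n : Γ(CohB1.tensorMod M N, U)) =
      SecTwist.tmul M N U m n + SecTwist.tmul M N U m' n := by
  show toT' M N U ((m + m') ⊗ₜ[Γ(X, U)] n) = _
  rw [TensorProduct.add_tmul, toT'_add]
  rfl

/-- Pure tensors are linear in the first variable. -/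
theorem tmul_smul_left (U : X.Opens) (r : Γ(X, U)) (m : Γ(M, U)) (n : Γ(N, U)) :
    (SecTwist.tmul M N U (r • m) n : Γ(CohB1.tensorMod M N, U)) =
      r • (SecTwist.tmul M N U m n : Γ(CohB1.tensorMod M N, U)) :=
  (congrArg (fun z => toT M N U (ofTV M N U z)) (TensorProduct.smul_tmul' r m n).symm).trans
    (((SecTwist.toTensor M N).app (op U)).hom.map_smul r (ofTV M N U (m ⊗ₜ[Γ(X, U)] n)))

theorem T_add (φ ψ : M ⟶ M') : T N (φ + ψ) = T N φ + T N ψ := by
  refine hom_ext_tmul fun U m n => ?_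
  rw [T_tmul, Scheme.Modules.Hom.add_app, Scheme.Modules.Hom.add_app]
  refine (tmul_add_left U (φ.app U m) (ψ.app U m) n).trans ?_
  rw [← T_tmul φ, ← T_tmul ψ]
  rfl

theorem T_zero : T N (0 : M ⟶ M') = 0 := by
  have h := T_add (N := N) (0 : M ⟶ M') 0
  rw [add_zero] at h
  simpa using h

theorem T_smul {k : Type u} [CommRing k] [X.Over (Spec (CommRingCat.of k))] (c : k) (φ : M ⟶ M') :
    T N (c • φ) = c • T N φ := by
  refine hom_ext_tmul fun U m n => ?_
  rw [T_tmul, KLin.smul_app_apply, KLin.smul_app_apply, T_tmul]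
  exact tmul_smul_left U _ _ n

/-- The linear map on sectionwise tensor products. -/
def mapTV (N : X.Modules) {U : X.Opens} (f : Γ(M, U) →ₗ[Γ(X, U)] Γ(M', U)) :
    TV M N U →ₗ[Γ(X, U)] TV M' N U :=
  TensorProduct.map f LinearMap.id

theorem T_toT' (φ : M ⟶ M') (U : X.Opens) (z : TV M N U) :
    (T N φ).app U (toT' M N U z) = toT' M' N U (mapTV N (secLin φ U) z) := by
  induction z using TensorProduct.induction_on with
  | zero => rw [toT'_zero, map_zero, map_zero, toT'_zero]
  | tmul m n => exact T_tmul φ U m n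
  | add a b ha hb => rw [toT'_add, map_add, map_add, toT'_add, ha, hb]

theorem resTV_mapTV (φ : M ⟶ M') {U V : X.Opens} (h : V ≤ U) (z : TV M N U) :
    resTV M' N h (mapTV N (secLin φ U) z) = mapTV N (secLin φ V) (resTV M N h z) := by
  induction z using TensorProduct.induction_on with
  | zero => rw [map_zero, resTV_zero, resTV_zero, map_zero]
  | tmul m n =>
    show resTV M' N h (secLin φ U m ⊗ₜ[Γ(X, U)] n) = _
    rw [resTV_tmul, resTV_tmul, secLin_apply, ← app_res]
    rfl
  | add a b ha hb => rw [map_add, resTV_add, resTV_add, map_add, ha, hb]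

/-- Locally on the base, `π` has a linear section and `ι` a retraction complementary to it, on sections. -/
def LocSplit (ι : M ⟶ M') (π : M' ⟶ M'') : Prop :=
  ∀ x : X, ∃ U : X.Opens, x ∈ U ∧ ∀ W ≤ U,
    ∃ (σ : Γ(M'', W) →ₗ[Γ(X, W)] Γ(M', W)) (r : Γ(M', W) →ₗ[Γ(X, W)] Γ(M, W)),
      r.comp (secLin ι W) = LinearMap.id ∧
      (secLin π W).comp σ = LinearMap.id ∧
      (secLin ι W).comp r + σ.comp (secLin π W) = LinearMap.id

theorem mono_T {ι : M ⟶ M'} {π : M' ⟶ M''} (hs : LocSplit ι π) (N : X.Modules) : Mono (T N ι) := by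
  refine Omega.Stalks.mono_of_stalk fun x => ?_
  rw [injective_iff_map_eq_zero]
  intro t ht
  obtain ⟨V, hxV, s, rfl⟩ := exists_germM_eq _ x t
  rw [stalkLin_germ] at ht
  obtain ⟨V', hxV', i₁, i₂, h0⟩ := (CohB1.tensorMod M' N).presheaf.germ_eq x hxV hxV ((T N ι).app V s) 0
    (ht.trans (map_zero ((CohB1.tensorMod M' N).presheaf.germ V x hxV).hom).symm)
  rw [map_zero] at h0
  obtain ⟨U, hxU, hU⟩ := hs x
  obtain ⟨W, hW, z, hxW, hz⟩ := toT'_locally_surjective (V' ⊓ U)
    ((CohB1.tensorMod M N).presheaf.map (homOfLE (inf_le_left.trans i₁.le : V' ⊓ U ≤ V)).op s) x ⟨hxV', hxU⟩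
  have hz0 : toT' M' N W (mapTV N (secLin ι W) z) = 0 := by
    rw [← T_toT', hz, app_res, app_res,
      ← LFFrame.res_res _ i₁.le (inf_le_left : V' ⊓ U ≤ V'),
      show (CohB1.tensorMod M' N).presheaf.map (homOfLE i₁.le).op ((T N ι).app V s) = 0 from h0,
      map_zero, map_zero]
  obtain ⟨W', hW', hxW', hz'⟩ := toT'_locally_injective W _ hz0 x hxW
  rw [resTV_mapTV] at hz'
  obtain ⟨σ, r, hr, -, -⟩ := hU W' (hW'.trans (hW.trans inf_le_right))
  have hzero : resTV M N hW' z = 0 := by
    have := congrArg (mapTV N r) hz'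
    rw [map_zero, ← LinearMap.comp_apply] at this
    rw [mapTV, mapTV, ← TensorProduct.map_comp, hr, LinearMap.id_comp, TensorProduct.map_id] at this
    exact this
  have hs0 : (CohB1.tensorMod M N).presheaf.map (homOfLE (hW'.trans (hW.trans (inf_le_left.trans i₁.le)))).op s = 0 := by
    rw [← LFFrame.res_res _ (inf_le_left.trans i₁.le : V' ⊓ U ≤ V) (hW'.trans hW),
      ← LFFrame.res_res _ hW hW', ← hz, res_toT', hzero, toT'_zero]
  rw [germM, ← (CohB1.tensorMod M N).presheaf.germ_res_apply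
    (homOfLE (hW'.trans (hW.trans (inf_le_left.trans i₁.le)))) x hxW' s, hs0, map_zero]

theorem exact_T {ι : M ⟶ M'} {π : M' ⟶ M''} (hs : LocSplit ι π) (N : X.Modules) (h : T N ι ≫ T N π = 0) :
    (ShortComplex.mk (T N ι) (T N π) h).Exact := by
  refine Omega.Stalks.exact_of_stalk _ fun x t ht => ?_
  obtain ⟨V, hxV, s, rfl⟩ := exists_germM_eq _ x t
  replace ht : stalkLin (T N π) x (germM _ V x hxV s) = 0 := ht
  rw [stalkLin_germ] at ht
  obtain ⟨V', hxV', i₁, i₂, h0⟩ := (CohB1.tensorMod M'' N).presheaf.germ_eq x hxV hxV ((T N π).app V s) 0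
    (ht.trans (map_zero ((CohB1.tensorMod M'' N).presheaf.germ V x hxV).hom).symm)
  rw [map_zero] at h0
  obtain ⟨U, hxU, hU⟩ := hs x
  obtain ⟨W, hW, z, hxW, hz⟩ := toT'_locally_surjective (V' ⊓ U)
    ((CohB1.tensorMod M' N).presheaf.map (homOfLE (inf_le_left.trans i₁.le : V' ⊓ U ≤ V)).op s) x ⟨hxV', hxU⟩
  have hz0 : toT' M'' N W (mapTV N (secLin π W) z) = 0 := by
    rw [← T_toT', hz, app_res, app_res,
      ← LFFrame.res_res _ i₁.le (inf_le_left : V' ⊓ U ≤ V'),
      show (CohB1.tensorMod M'' N).presheaf.map (homOfLE i₁.le).op ((T N π).app V s) = 0 from h0,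
      map_zero, map_zero]
  obtain ⟨W', hW', hxW', hz'⟩ := toT'_locally_injective W _ hz0 x hxW
  rw [resTV_mapTV] at hz'
  obtain ⟨σ, r, -, -, hsum⟩ := hU W' (hW'.trans (hW.trans inf_le_right))
  have hzero : mapTV N (secLin ι W') (mapTV N r (resTV M' N hW' z)) = resTV M' N hW' z := by
    have h1 := LinearMap.congr_fun (congrArg (mapTV N) hsum) (resTV M' N hW' z)
    simp only [mapTV, TensorProduct.map_add_left, LinearMap.add_apply, TensorProduct.map_id, LinearMap.id_apply] at h1
    rw [← LinearMap.comp_apply, mapTV, mapTV, ← TensorProduct.map_comp, LinearMap.id_comp]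
    refine Eq.trans ?_ h1
    have h2 : TensorProduct.map (σ.comp (secLin π W')) LinearMap.id (resTV M' N hW' z) = 0 := by
      rw [show TensorProduct.map (σ.comp (secLin π W')) LinearMap.id =
        (mapTV N σ).comp (mapTV N (secLin π W')) by
          rw [mapTV, mapTV, ← TensorProduct.map_comp, LinearMap.id_comp]]
      rw [LinearMap.comp_apply, hz', map_zero]
    rw [h2, add_zero]
  refine ⟨germM _ W' x hxW' (toT' M N W' (mapTV N r (resTV M' N hW' z))), ?_⟩
  show stalkLin (T N ι) x _ = _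
  rw [stalkLin_germ, T_toT', hzero, ← res_toT', hz, LFFrame.res_res, LFFrame.res_res]
  exact (CohB1.tensorMod M' N).presheaf.germ_res_apply
    (homOfLE (hW'.trans (hW.trans (inf_le_left.trans i₁.le)))) x hxW' s

end Groth.Agent.DefoShLib
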