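import Groth.Agent.DefoShLib.Basic
import Groth.Prelude.Def_DefoConn

/-!
# Deformations of connections
-/

set_option autoImplicit false
set_option backward.isDefEq.respectTransparency false
set_option backward.isDefEq.respectTransparency.types false
set_option linter.style.haveILetI false

universe u

open CategoryTheory CategoryTheory.Limits AlgebraicGeometry TopologicalSpace Opposite
open ArtFun ArtFun.Art
open Groth.Agent.PullStalk.Sky Groth.Agent.PullStalk.Exact

set_option maxHeartbeats 800000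

noncomputable section

namespace Groth.Agent.DefoShLib

variable {X : Scheme.{u}} {M N P Ω' : X.Modules}

/-- The underlying map of abelian sheaves. -/
abbrev L (f : M ⟶ N) : Coh.toAb M ⟶ Coh.toAb N := (SheafOfModules.toSheaf X.ringCatSheaf).map f

theorem secApp_L (f : M ⟶ N) (U : X.Opens) (x : M.val.obj (op U)) :
    ConnSh.secApp (L f) U x = f.app U x := rfl

theorem secApp_comp (φ : Coh.toAb M ⟶ Coh.toAb N) (ψ : Coh.toAb N ⟶ Coh.toAb P) (U : X.Opens)
    (x : M.val.obj (op U)) :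
    ConnSh.secApp (φ ≫ ψ) U x = ConnSh.secApp ψ U (ConnSh.secApp φ U x) := rfl

theorem secApp_add (φ ψ : Coh.toAb M ⟶ Coh.toAb N) (U : X.Opens) (x : M.val.obj (op U)) :
    ConnSh.secApp (φ + ψ) U x = ConnSh.secApp φ U x + ConnSh.secApp ψ U x := rfl

theorem secApp_sub (φ ψ : Coh.toAb M ⟶ Coh.toAb N) (U : X.Opens) (x : M.val.obj (op U)) :
    ConnSh.secApp (φ - ψ) U x = ConnSh.secApp φ U x - ConnSh.secApp ψ U x := rfl

theorem ab_ext {φ ψ : Coh.toAb M ⟶ Coh.toAb N}
    (h : ∀ (U : X.Opens) (x : M.val.obj (op U)), ConnSh.secApp φ U x = ConnSh.secApp ψ U x) : φ = ψ := by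
  ext U x
  exact h _ x

theorem L_comp (f : M ⟶ N) (g : N ⟶ P) : L (f ≫ g) = L f ≫ L g := Functor.map_comp _ _ _

theorem L_id : L (𝟙 M) = 𝟙 _ := CategoryTheory.Functor.map_id _ _

theorem L_add (f g : M ⟶ N) : L (f + g) = L f + L g := ab_ext fun _ _ => rfl

theorem L_zero : L (0 : M ⟶ N) = 0 := ab_ext fun _ _ => rfl

theorem L_sub (f g : M ⟶ N) : L (f - g) = L f - L g := ab_ext fun _ _ => rfl

theorem L_injective : Function.Injective (L : (M ⟶ N) → (Coh.toAb M ⟶ Coh.toAb N)) := fun f g h => by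
  refine Scheme.Modules.hom_ext _ _ fun U => ?_
  ext x
  exact congrArg (fun φ : Coh.toAb M ⟶ Coh.toAb N => ConnSh.secApp φ U x) h

/-- A map of abelian sheaves commuting with scalars is the underlying map of a morphism of modules. -/
theorem exists_L_eq (d : Coh.toAb M ⟶ Coh.toAb N)
    (h : ∀ (U : X.Opens) (t : Γ(X, U)) (e : M.val.obj (op U)),
      ConnSh.secApp d U (t • e) = t • ConnSh.secApp d U e) :
    ∃ f : M ⟶ N, L f = d :=
  ⟨⟨PresheafOfModules.homMk d.hom fun U t m => h U.unop t m⟩, ab_ext fun _ _ => rfl⟩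

theorem isHorizontal_iff {E E' : X.Modules} (nab : Coh.toAb E ⟶ Coh.toAb (CohB1.tensorMod E Ω'))
    (nab' : Coh.toAb E' ⟶ Coh.toAb (CohB1.tensorMod E' Ω')) (φ : E ⟶ E') :
    ConnSh.IsHorizontal nab nab' φ ↔ L φ ≫ nab' = nab ≫ L (T Ω' φ) :=
  ⟨fun h => ab_ext fun U x => h U x,
    fun h U x => congrArg (fun ψ : Coh.toAb E ⟶ Coh.toAb (CohB1.tensorMod E' Ω') => ConnSh.secApp ψ U x) h⟩

variable {k : Type u} [Field k] [X.Over (Spec (CommRingCat.of k))]
  {δ : OmegaSh.Der (X ↘ Spec (CommRingCat.of k)) Ω'}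

/-- The derivation kills the scalars of `k`. -/
theorem der_scalar (c : k) (U : X.Opens) :
    δ.app U (X.presheaf.map (homOfLE (le_top : U ≤ ⊤)).op
      (Coh.toGlobal (X ↘ Spec (CommRingCat.of k)) c)) = 0 := by
  rw [Omega.Basic.der_map δ (homOfLE (le_top : U ≤ ⊤)) (Coh.toGlobal (X ↘ Spec (CommRingCat.of k)) c)]
  refine (congrArg _ ?_).trans (map_zero (Ω'.presheaf.map (homOfLE (le_top : U ≤ ⊤)).op).hom)
  exact Omega.Basic.der_app δ ⊤ ((Scheme.ΓSpecIso (CommRingCat.of k)).inv c)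

theorem horizontal_smul_id {E : X.Modules} {nab : Coh.toAb E ⟶ Coh.toAb (CohB1.tensorMod E Ω')}
    (hn : ConnSh.IsConn δ E nab) (c : k) :
    L (c • 𝟙 E) ≫ nab = nab ≫ L (T Ω' (c • 𝟙 E)) := by
  rw [T_smul, T_id]
  refine ab_ext fun U x => ?_
  rw [secApp_comp, secApp_comp, secApp_L, secApp_L, KLin.smul_app_apply, KLin.smul_app_apply,
    Scheme.Modules.Hom.id_app, Scheme.Modules.Hom.id_app]
  refine (hn U _ x).trans ?_
  rw [der_scalar]
  refine add_eq_left.mpr ?_
  exact (congrArg (toT' E Ω' U) (TensorProduct.tmul_zero _ x)).trans (toT'_zero (M := E) (N := Ω') U)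

/-- The difference of two connections is linear. -/
theorem exists_L_sub {E : X.Modules} {a b : Coh.toAb E ⟶ Coh.toAb (CohB1.tensorMod E Ω')}
    (ha : ConnSh.IsConn δ E a) (hb : ConnSh.IsConn δ E b) :
    ∃ f : E ⟶ CohB1.tensorMod E Ω', L f = a - b :=
  exists_L_eq _ fun U t e => by
    rw [secApp_sub, secApp_sub, ha U t e, hb U t e, smul_sub]
    abel

variable {E : X.Modules} {nabla : Coh.toAb E ⟶ Coh.toAb (CohB1.tensorMod E Ω')}
  {D : DefoSh.Defo E (ArtFun.Art.dual k k)} {ι : E ⟶ D.sheaf}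

section

variable (hι : D.π ≫ ι = eps D) (hE : FlatMod.IsFinLocFree E)

include hι hE

theorem cancel_π (h : Coh.toAb E ⟶ Coh.toAb (CohB1.tensorMod D.sheaf Ω')) (h0 : L D.π ≫ h = 0) : h = 0 := by
  refine ab_ext fun U e => ?_
  show ConnSh.secApp h U e = 0
  refine KoszTwLib.eq_zero_of_locally _ U _ fun x hx => ?_
  obtain ⟨W, hW, v, hxW, hv⟩ := exists_lift D e x hx
  refine ⟨W, hW, hxW, ?_⟩
  have h1 : (CohB1.tensorMod D.sheaf Ω').presheaf.map (homOfLE hW).op (ConnSh.secApp h U e) =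
      ConnSh.secApp h W (D.π.app W v) := by
    rw [hv]
    exact (NatTrans.naturality_apply h.hom (homOfLE hW).op e).symm
  refine h1.trans ?_
  exact congrArg (fun ψ : Coh.toAb D.sheaf ⟶ Coh.toAb (CohB1.tensorMod D.sheaf Ω') => ConnSh.secApp ψ W v) h0

/-- Every linear map killed by the reduction and by `ε` comes from `E`. -/
theorem exists_factor (f : D.sheaf ⟶ CohB1.tensorMod D.sheaf Ω') (hπ : f ≫ T Ω' D.π = 0)
    (hε : eps D ≫ f = f ≫ T Ω' (eps D)) :
    ∃ φ : E ⟶ CohB1.tensorMod E Ω', f = D.π ≫ φ ≫ T Ω' ι := by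
  have hz : T Ω' ι ≫ T Ω' D.π = 0 := by rw [← T_comp, ι_π D hι, T_zero]
  haveI := mono_T (locSplit D hι hE) Ω'
  haveI := epi_π D
  have hex := exact_T (locSplit D hι hE) Ω' hz
  haveI : Mono (ShortComplex.mk (T Ω' ι) (T Ω' D.π) hz).f := mono_T (locSplit D hι hE) Ω'
  let g := hex.lift f hπ
  have hg : g ≫ T Ω' ι = f := hex.lift_f f hπ
  have h1 : ι ≫ g = 0 := by
    rw [← cancel_epi D.π, comp_zero, ← Category.assoc, hι, ← cancel_mono (T Ω' ι), Category.assoc, hg, hε,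
      zero_comp, ← hι, T_comp, ← Category.assoc, hπ, zero_comp]
  haveI : Epi (ShortComplex.mk ι D.π (ι_π D hι)).g := epi_π D
  refine ⟨(shortExact D hι).exact.desc g h1, ?_⟩
  rw [← Category.assoc]
  exact hg.symm.trans (congrArg (· ≫ T Ω' ι) ((shortExact D hι).exact.g_desc g h1).symm)

theorem ι_conn (hn : ConnSh.IsConn δ E nabla) (c : DefoSh.DefoConn δ nabla D) :
    L ι ≫ c.conn = nabla ≫ L (T Ω' ι) := by
  rw [← sub_eq_zero]
  refine cancel_π hι hE _ ?_
  have h1 := (isHorizontal_iff _ _ _).mp (c.act_horizontal (DualNumber.eps : DualNumber k))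
  have h2 := (isHorizontal_iff _ _ _).mp c.π_horizontal
  rw [Preadditive.comp_sub, ← Category.assoc, ← L_comp, hι, h1, ← Category.assoc, h2, Category.assoc,
    ← L_comp, ← T_comp, hι, sub_self]

/-- The deformation of the connection translated by a linear map. -/
def translate (c₀ : DefoSh.DefoConn δ nabla D) (φ : E ⟶ CohB1.tensorMod E Ω') :
    DefoSh.DefoConn δ nabla D where
  conn := c₀.conn + L (D.π ≫ φ ≫ T Ω' ι)
  isConn U t e := by
    rw [secApp_add, secApp_add, c₀.isConn U t e, secApp_L, secApp_L, Scheme.Modules.Hom.app_smul, smul_add]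
    abel
  act_horizontal a := by
    rw [isHorizontal_iff, Preadditive.comp_add, Preadditive.add_comp,
      (isHorizontal_iff _ _ _).mp (c₀.act_horizontal a), ← L_comp, ← L_comp]
    have h : D.act a ≫ D.π ≫ φ ≫ T Ω' ι = (D.π ≫ φ ≫ T Ω' ι) ≫ T Ω' (D.act a) := by
      change (show DualNumber k → (D.sheaf ⟶ D.sheaf) from fun b => D.act b) a ≫ _ = _ ≫ T Ω' ((show DualNumber k → (D.sheaf ⟶ D.sheaf) from fun b => D.act b) a)
      dsimp only
      rw [← Category.assoc, act_π D a, act_eq D a, T_add, T_smul, T_smul, T_id, ← hι, T_comp]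
      simp only [Preadditive.comp_add, Linear.smul_comp, Linear.comp_smul, Category.assoc, Category.comp_id]
      rw [← Category.assoc (T Ω' ι) (T Ω' D.π), ← T_comp, ι_π D hι, T_zero, zero_comp, comp_zero, comp_zero,
        smul_zero, add_zero]
    rw [h]
  π_horizontal := by
    rw [isHorizontal_iff, Preadditive.add_comp, (isHorizontal_iff _ _ _).mp c₀.π_horizontal, ← L_comp,
      Category.assoc, Category.assoc, ← T_comp, ι_π D hι, T_zero, comp_zero, comp_zero, L_zero, add_zero]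

theorem defoConn_equiv (c₀ : DefoSh.DefoConn δ nabla D) :
    ∃ Φ : DefoSh.DefoConn δ nabla D ≃ (E ⟶ CohB1.tensorMod E Ω'),
      ∀ c : DefoSh.DefoConn δ nabla D, c.conn - c₀.conn = L (D.π ≫ Φ c ≫ T Ω' ι) := by
  have key : ∀ c : DefoSh.DefoConn δ nabla D, ∃ φ : E ⟶ CohB1.tensorMod E Ω',
      c.conn - c₀.conn = L (D.π ≫ φ ≫ T Ω' ι) := by
    intro c
    obtain ⟨f, hf⟩ := exists_L_sub c.isConn c₀.isConn
    have hπ : f ≫ T Ω' D.π = 0 := L_injective (by
      rw [L_comp, hf, Preadditive.sub_comp, L_zero, ← (isHorizontal_iff _ _ _).mp c.π_horizontal,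
        ← (isHorizontal_iff _ _ _).mp c₀.π_horizontal, sub_self])
    have hε : eps D ≫ f = f ≫ T Ω' (eps D) := L_injective (by
      rw [L_comp, L_comp, hf, Preadditive.comp_sub, Preadditive.sub_comp,
        (isHorizontal_iff _ _ _).mp (c.act_horizontal (DualNumber.eps : DualNumber k)),
        (isHorizontal_iff _ _ _).mp (c₀.act_horizontal (DualNumber.eps : DualNumber k))])
    obtain ⟨φ, hφ⟩ := exists_factor hι hE f hπ hε
    exact ⟨φ, by rw [← hf, hφ]⟩
  choose Φ hΦ using key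
  haveI := epi_π D
  haveI := mono_T (locSplit D hι hE) Ω'
  have hinj : ∀ φ φ' : E ⟶ CohB1.tensorMod E Ω', L (D.π ≫ φ ≫ T Ω' ι) = L (D.π ≫ φ' ≫ T Ω' ι) → φ = φ' := by
    intro φ φ' h
    exact (cancel_mono (T Ω' ι)).mp ((cancel_epi D.π).mp (L_injective h))
  refine ⟨Equiv.ofBijective Φ ⟨fun c c' h => ?_, fun φ => ⟨translate hι c₀ φ, hinj _ _ ?_⟩⟩, hΦ⟩
  · have : c.conn = c'.conn := by
      have h1 := (hΦ c).trans ((congrArg (fun φ => L (D.π ≫ φ ≫ T Ω' ι)) h).trans (hΦ c').symm)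
      simpa using h1
    cases c; cases c'; cases this; rfl
  · rw [← hΦ]
    exact add_sub_cancel_left _ _

/-- Automorphisms of a first-order deformation. -/
def autOfEnd (S : E ⟶ E) : DefoSh.Defo.Iso D D where
  iso :=
    { hom := 𝟙 _ + D.π ≫ S ≫ ι
      inv := 𝟙 _ - D.π ≫ S ≫ ι
      hom_inv_id := by
        simp only [Preadditive.add_comp, Preadditive.comp_sub, Category.id_comp, Category.comp_id,
          Category.assoc, reassoc_of% (ι_π D hι), zero_comp, comp_zero, sub_zero]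
        abel
      inv_hom_id := by
        simp only [Preadditive.sub_comp, Preadditive.comp_add, Category.id_comp, Category.comp_id,
          Category.assoc, reassoc_of% (ι_π D hι), zero_comp, comp_zero, add_zero]
        abel }
  act_hom a := by
    change (show DualNumber k → (D.sheaf ⟶ D.sheaf) from fun b => D.act b) a ≫ _ = _ ≫ (show DualNumber k → (D.sheaf ⟶ D.sheaf) from fun b => D.act b) a
    dsimp only
    rw [act_eq D a, ← hι]
    simp only [Preadditive.comp_add, Preadditive.add_comp, Linear.smul_comp, Linear.comp_smul,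
      Category.comp_id, Category.id_comp, Category.assoc, reassoc_of% (ι_π D hι), zero_comp, comp_zero,
      smul_zero, add_zero, smul_add]
    abel
  hom_π := by
    rw [Preadditive.add_comp, Category.id_comp, Category.assoc, Category.assoc, ι_π D hι, comp_zero, comp_zero,
      add_zero]

theorem exists_eq_autOfEnd (e : DefoSh.Defo.Iso D D) : ∃ S : E ⟶ E, e.iso.hom = 𝟙 _ + D.π ≫ S ≫ ι := by
  haveI : Mono (ShortComplex.mk ι D.π (ι_π D hι)).f := (shortExact D hι).mono_f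
  haveI : Epi (ShortComplex.mk ι D.π (ι_π D hι)).g := (shortExact D hι).epi_g
  haveI : Mono ι := (shortExact D hι).mono_f
  haveI := epi_π D
  have h0 : (e.iso.hom - 𝟙 _) ≫ D.π = 0 := by
    rw [Preadditive.sub_comp, e.hom_π, Category.id_comp, sub_self]
  obtain ⟨g, hg⟩ : ∃ g : D.sheaf ⟶ E, g ≫ ι = e.iso.hom - 𝟙 _ :=
    ⟨(shortExact D hι).exact.lift _ h0, (shortExact D hι).exact.lift_f _ h0⟩
  have h1 : ι ≫ g = 0 := by
    rw [← cancel_epi D.π, comp_zero, ← Category.assoc, hι, ← cancel_mono ι, Category.assoc, hg, zero_comp,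
      Preadditive.comp_sub, Category.comp_id, sub_eq_zero,
      show eps D ≫ e.iso.hom = e.iso.hom ≫ eps D from e.act_hom (DualNumber.eps : DualNumber k), ← hι,
      ← Category.assoc, e.hom_π]
  refine ⟨(shortExact D hι).exact.desc g h1, ?_⟩
  rw [← Category.assoc]
  have : D.π ≫ (shortExact D hι).exact.desc g h1 = g := (shortExact D hι).exact.g_desc g h1
  rw [this, hg, add_sub_cancel]

theorem transport_iff (hn : ConnSh.IsConn δ E nabla) (c c' : DefoSh.DefoConn δ nabla D) :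
    DefoSh.DefoConn.Transport c c' ↔ ∃ S : E ⟶ E,
      c'.conn - c.conn = L D.π ≫ (nabla ≫ L (T Ω' S) - L S ≫ nabla) ≫ L (T Ω' ι) := by
  have key : ∀ S : E ⟶ E, ConnSh.IsHorizontal c.conn c'.conn (𝟙 _ + D.π ≫ S ≫ ι) ↔
      c'.conn - c.conn = L D.π ≫ (nabla ≫ L (T Ω' S) - L S ≫ nabla) ≫ L (T Ω' ι) := by
    intro S
    have h1 : L (D.π ≫ S ≫ ι) ≫ c'.conn = L D.π ≫ L S ≫ nabla ≫ L (T Ω' ι) := by
      rw [L_comp, L_comp, Category.assoc, Category.assoc, ι_conn hι hE hn]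
    have h2 : c.conn ≫ L (T Ω' (D.π ≫ S ≫ ι)) = L D.π ≫ nabla ≫ L (T Ω' S) ≫ L (T Ω' ι) := by
      rw [T_comp, T_comp, L_comp, L_comp, ← Category.assoc, ← (isHorizontal_iff _ _ _).mp c.π_horizontal,
        Category.assoc]
    rw [isHorizontal_iff, T_add, T_id, L_add, L_add, L_id, L_id, Preadditive.add_comp, Preadditive.comp_add,
      Category.id_comp, Category.comp_id, h1, h2, Preadditive.sub_comp, Preadditive.comp_sub, Category.assoc,
      Category.assoc, sub_eq_sub_iff_add_eq_add,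
      add_comm (L D.π ≫ nabla ≫ L (T Ω' S) ≫ L (T Ω' ι)) c.conn]
  refine ⟨fun ⟨e, he⟩ => ?_, fun ⟨S, hS⟩ => ⟨autOfEnd hι S, (key S).2 hS⟩⟩
  obtain ⟨S, hS⟩ := exists_eq_autOfEnd hι hE e
  exact ⟨S, (key S).1 (hS ▸ he)⟩

end

/-- The connection `∇ ⊕ ∇` on the trivial deformation. -/
def trivConn (hn : ConnSh.IsConn δ E nabla) : DefoSh.DefoConn δ nabla (DefoSh.Defo.trivDual k E) where
  conn := L (biprod.fst : E ⊞ E ⟶ E) ≫ nabla ≫ L (T Ω' (biprod.inl : E ⟶ E ⊞ E)) +
    L (biprod.snd : E ⊞ E ⟶ E) ≫ nabla ≫ L (T Ω' (biprod.inr : E ⟶ E ⊞ E))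
  isConn U t e := by
    change Γ(E ⊞ E, U) at e
    show ConnSh.secApp _ U (t • e) = _
    have hsum : (biprod.inl : E ⟶ E ⊞ E).app U ((biprod.fst : E ⊞ E ⟶ E).app U e) +
        (biprod.inr : E ⟶ E ⊞ E).app U ((biprod.snd : E ⊞ E ⟶ E).app U e) = e :=
      congrArg (fun ψ : E ⊞ E ⟶ E ⊞ E => ψ.app U e) (biprod.total (X := E) (Y := E))
    simp only [secApp_add, secApp_comp, secApp_L]
    rw [Scheme.Modules.Hom.app_smul, Scheme.Modules.Hom.app_smul]
    rw [hn U t ((biprod.fst : E ⊞ E ⟶ E).app U e), hn U t ((biprod.snd : E ⊞ E ⟶ E).app U e),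
      map_add, map_add]
    erw [T_tmul, T_tmul]
    erw [Scheme.Modules.Hom.app_smul, Scheme.Modules.Hom.app_smul]
    conv_rhs => arg 2; rw [← hsum]
    erw [tmul_add_left, smul_add]
    exact add_add_add_comm (G := Γ(CohB1.tensorMod (E ⊞ E) Ω', U)) _ _ _ _
  act_horizontal a := by
    rw [isHorizontal_iff]
    have ha : ((DefoSh.Defo.trivDual k E).act a : E ⊞ E ⟶ E ⊞ E) =
        (TrivSqZeroExt.fst a : k) • 𝟙 (E ⊞ E) + (TrivSqZeroExt.snd a : k) • ((biprod.fst : E ⊞ E ⟶ E) ≫ biprod.inr) :=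
      DefoSh.dualAct_hom E a
    rw [ha]
    have e1 : ∀ c d : k, (c • 𝟙 (E ⊞ E) + d • ((biprod.fst : E ⊞ E ⟶ E) ≫ biprod.inr)) ≫
        (biprod.fst : E ⊞ E ⟶ E) = (biprod.fst : E ⊞ E ⟶ E) ≫ (c • 𝟙 E) := fun c d => by
      simp [Preadditive.add_comp, Linear.smul_comp, Linear.comp_smul]
    have e2 : ∀ c d : k, (c • 𝟙 (E ⊞ E) + d • ((biprod.fst : E ⊞ E ⟶ E) ≫ biprod.inr)) ≫
        (biprod.snd : E ⊞ E ⟶ E) = (biprod.snd : E ⊞ E ⟶ E) ≫ (c • 𝟙 E) + (biprod.fst : E ⊞ E ⟶ E) ≫ (d • 𝟙 E) :=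
      fun c d => by simp [Preadditive.add_comp, Linear.smul_comp, Linear.comp_smul]
    have e3 : ∀ c d : k, T Ω' (biprod.inl : E ⟶ E ⊞ E) ≫
        T Ω' (c • 𝟙 (E ⊞ E) + d • ((biprod.fst : E ⊞ E ⟶ E) ≫ biprod.inr)) =
        c • T Ω' (biprod.inl : E ⟶ E ⊞ E) + d • T Ω' (biprod.inr : E ⟶ E ⊞ E) := fun c d => by
      rw [← T_comp, ← T_smul, ← T_smul, ← T_add]
      simp [Preadditive.comp_add, Linear.comp_smul]
    have e4 : ∀ c d : k, T Ω' (biprod.inr : E ⟶ E ⊞ E) ≫
        T Ω' (c • 𝟙 (E ⊞ E) + d • ((biprod.fst : E ⊞ E ⟶ E) ≫ biprod.inr)) =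
        c • T Ω' (biprod.inr : E ⟶ E ⊞ E) := fun c d => by
      rw [← T_comp, ← T_smul]
      simp [Preadditive.comp_add, Linear.comp_smul]
    have hc : ∀ (d : k) (q : E ⟶ E ⊞ E), L (d • 𝟙 E) ≫ nabla ≫ L (T Ω' q) = nabla ≫ L (d • T Ω' q) := by
      intro d q
      rw [← Category.assoc, horizontal_smul_id hn, Category.assoc, ← L_comp, T_smul, T_id, Linear.smul_comp,
        Category.id_comp]
    rw [Preadditive.comp_add, Preadditive.add_comp, Category.assoc, Category.assoc, Category.assoc,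
      Category.assoc, ← Category.assoc (L _) (L biprod.fst), ← L_comp, e1,
      ← Category.assoc (L _) (L biprod.snd), ← L_comp, e2, L_add, L_comp, L_comp, L_comp, Preadditive.add_comp,
      Category.assoc, Category.assoc, Category.assoc, hc, hc, hc, ← L_comp, ← L_comp, e3, e4, L_add,
      Preadditive.comp_add, Preadditive.comp_add]
    abel
  π_horizontal := by
    rw [isHorizontal_iff]
    show L (biprod.fst : E ⊞ E ⟶ E) ≫ nabla = _ ≫ L (T Ω' (biprod.fst : E ⊞ E ⟶ E))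
    rw [Preadditive.add_comp]
    simp only [Category.assoc, ← L_comp, ← T_comp, biprod.inl_fst, biprod.inr_fst, T_id, T_zero, L_id, L_zero,
      comp_zero, add_zero, Category.comp_id]

end Groth.Agent.DefoShLib
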