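import Groth.Prelude.Def_DefoSh2
import Groth.Agent.DefoShLib.Tensor
import Groth.Agent.Omega.Stalks
import Groth.Agent.LFFrame.Basic
import Mathlib.RingTheory.Flat.Equalizer
import Mathlib.RingTheory.Flat.Basic
import Mathlib.LinearAlgebra.TensorProduct.Quotient
import Mathlib.RingTheory.HopkinsLevitzki

/-!
# First properties of deformations of modules
-/

set_option autoImplicit false
set_option backward.isDefEq.respectTransparency false
set_option linter.style.haveILetI false

universe u

open CategoryTheory CategoryTheory.Limits AlgebraicGeometry TopologicalSpace Opposite TensorProduct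
open ArtFun ArtFun.Art
open Groth.Agent.PullStalk.Sky Groth.Agent.PullStalk.Exact

noncomputable section

namespace Groth.Agent.DefoShLib

section Algebra

variable {A : Type*} [CommRing A] [IsLocalRing A]

/-- A map of flat modules over a ring with nilpotent maximal ideal that is bijective modulo the maximal
ideal is bijective, in the form used for deformations. -/
theorem bijective_of_reduction (hm : IsNilpotent (IsLocalRing.maximalIdeal A))
    {M N Q : Type*} [AddCommGroup M] [Module A M] [AddCommGroup N] [Module A N]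
    [Module.Flat A N] (f : M →ₗ[A] N) (p : M → Q) (q : N → Q) (q0 : Q) (hpq : ∀ m, q (f m) = p m)
    (hp : Function.Surjective p) (hker : ∀ m, p m = q0 → m ∈ IsLocalRing.maximalIdeal A • (⊤ : Submodule A M))
    (hq : ∀ n n', q n = q n' → n - n' ∈ IsLocalRing.maximalIdeal A • (⊤ : Submodule A N))
    (hf0 : ∀ m, f m = 0 → p m = q0) : Function.Bijective f := by
  obtain ⟨e, he⟩ := hm
  have hsurj : Function.Surjective f := by
    rw [← LinearMap.range_eq_top]
    have h1 : ∀ i, (⊤ : Submodule A N) ≤ LinearMap.range f ⊔ IsLocalRing.maximalIdeal A ^ i • ⊤ := by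
      have h0 : (⊤ : Submodule A N) ≤ LinearMap.range f ⊔ IsLocalRing.maximalIdeal A • ⊤ := by
        intro n _
        obtain ⟨m, hm⟩ := hp (q n)
        rw [Submodule.mem_sup]
        exact ⟨f m, LinearMap.mem_range_self f m, n - f m,
          hq n (f m) (by rw [hpq, hm]), add_sub_cancel _ _⟩
      intro i
      induction i with
      | zero => simp
      | succ i ih =>
        refine ih.trans (sup_le le_sup_left ?_)
        refine (Submodule.smul_mono le_rfl h0).trans ?_
        rw [Submodule.smul_sup, ← Submodule.mul_smul, ← pow_succ]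
        exact sup_le_sup_right Submodule.smul_le_right _
    have h2 := h1 e
    rw [he, Ideal.zero_eq_bot, Submodule.bot_smul, sup_bot_eq] at h2
    exact top_le_iff.mp h2
  refine ⟨?_, hsurj⟩
  rw [← LinearMap.ker_eq_bot]
  have h1 : LinearMap.ker f ≤ IsLocalRing.maximalIdeal A • LinearMap.ker f := by
    intro m hm
    have hinj := LinearMap.lTensor_injective_of_exact_of_flat (R := A) f hsurj
      (LinearMap.ker f).subtype (Submodule.injective_subtype _) (LinearMap.exact_subtype_ker_map f)
      (A ⧸ IsLocalRing.maximalIdeal A)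
    have hz : ((1 : A ⧸ IsLocalRing.maximalIdeal A) ⊗ₜ[A] (⟨m, hm⟩ : LinearMap.ker f)) = 0 := by
      apply hinj
      rw [map_zero, LinearMap.lTensor_tmul, Submodule.subtype_apply]
      apply (TensorProduct.quotTensorEquivQuotSMul M (IsLocalRing.maximalIdeal A)).injective
      rw [map_zero]
      erw [TensorProduct.quotTensorEquivQuotSMul_mk_tmul]
      rw [one_smul, Submodule.Quotient.mk_eq_zero]
      exact hker m (hf0 m hm)
    have := congrArg (TensorProduct.quotTensorEquivQuotSMul (LinearMap.ker f) (IsLocalRing.maximalIdeal A)) hz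
    rw [map_zero] at this
    erw [TensorProduct.quotTensorEquivQuotSMul_mk_tmul] at this
    rw [one_smul, Submodule.Quotient.mk_eq_zero] at this
    have h3 := Submodule.mem_map_of_mem (f := (LinearMap.ker f).subtype) this
    rw [Submodule.map_smul'', Submodule.map_subtype_top] at h3
    exact h3
  have h2 : ∀ i, LinearMap.ker f ≤ IsLocalRing.maximalIdeal A ^ i • LinearMap.ker f := by
    intro i
    induction i with
    | zero => simp
    | succ i ih =>
      rw [pow_succ, Submodule.mul_smul]
      exact ih.trans (Submodule.smul_mono le_rfl h1)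
  have h3 := h2 e
  rw [he, Ideal.zero_eq_bot, Submodule.bot_smul] at h3
  exact le_bot_iff.mp h3

/-- Over the dual numbers the elements of a flat module killed by `ε` are the multiples of `ε`. -/
theorem eps_smul_eq_zero {k : Type*} [Field k] {M : Type*} [AddCommGroup M] [Module (DualNumber k) M]
    [Module.Flat (DualNumber k) M] {m : M} (h : (DualNumber.eps : DualNumber k) • m = 0) :
    ∃ n : M, (DualNumber.eps : DualNumber k) • n = m := by
  let φ : DualNumber k →ₗ[DualNumber k] DualNumber k := (DualNumber.eps : DualNumber k) • LinearMap.id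
  have hex : Function.Exact φ φ := by
    intro a
    constructor
    · intro ha
      refine ⟨TrivSqZeroExt.inl a.snd, ?_⟩
      have h1 : a.fst = 0 := by
        simpa [φ] using congrArg TrivSqZeroExt.snd ha
      ext <;> simp [φ, h1]
    · rintro ⟨b, rfl⟩
      simp [φ, ← mul_assoc]
  have h2 := Module.Flat.lTensor_exact (R := DualNumber k) M hex
  have h3 : φ.lTensor M = (DualNumber.eps : DualNumber k) • LinearMap.id := by
    rw [LinearMap.lTensor_smul, LinearMap.lTensor_id]
  rw [h3] at h2
  obtain ⟨n, hn⟩ := (h2 (m ⊗ₜ[DualNumber k] (1 : DualNumber k))).mp (by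
    rw [LinearMap.smul_apply, LinearMap.id_apply, TensorProduct.smul_tmul', h, TensorProduct.zero_tmul])
  refine ⟨TensorProduct.rid (DualNumber k) M n, ?_⟩
  rw [← map_smul, ← LinearMap.id_apply (R := DualNumber k) n, ← LinearMap.smul_apply, hn,
    TensorProduct.rid_tmul, one_smul]

end Algebra

variable {k : Type u} [Field k] {X : Scheme.{u}} [X.Over (Spec (CommRingCat.of k))] {E : X.Modules}

theorem stalkLin_eq {M N : X.Modules} (φ : M ⟶ N) (x : X) (v : M.presheaf.stalk x) :
    stalkLin φ x v = RefHull.stalkMapₗ φ x v := rfl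

theorem ext_stalk {M N : X.Modules} {φ ψ : M ⟶ N}
    (h : ∀ x v, RefHull.stalkMapₗ φ x v = RefHull.stalkMapₗ ψ x v) : φ = ψ :=
  Omega.Stalks.hom_ext_stalk fun x => LinearMap.ext (h x)

variable {A : Art k k}

theorem epi_π (D : DefoSh.Defo E A) : Epi D.π := Omega.Stalks.epi_of_stalk D.surj

/-- Sections of `E` lift locally. -/
theorem exists_lift (D : DefoSh.Defo E A) {U : X.Opens} (e : Γ(E, U)) (x : X) (hx : x ∈ U) :
    ∃ (W : X.Opens) (hW : W ≤ U) (v : Γ(D.sheaf, W)), x ∈ W ∧
      D.π.app W v = E.presheaf.map (homOfLE hW).op e := by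
  obtain ⟨t, ht⟩ := D.surj x (germM E U x hx e)
  obtain ⟨V, hxV, v, rfl⟩ := exists_germM_eq D.sheaf x t
  rw [RefHull.stalkMapₗ_germ] at ht
  obtain ⟨W, hxW, i₁, i₂, h⟩ := E.presheaf.germ_eq x hxV hx (D.π.app V v) e ht
  exact ⟨W, i₂.le, D.sheaf.presheaf.map i₁.op v, hxW,
    (app_res D.π i₁.le v).trans h⟩

/-- A morphism of deformations over `A` is bijective on stalks. -/
theorem isIso_of_hom (D D' : DefoSh.Defo E A) (φ : D.sheaf ⟶ D'.sheaf)
    (hact : ∀ a : A, D.act a ≫ φ = φ ≫ D'.act a) (hπ : φ ≫ D'.π = D.π) : IsIso φ := by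
  refine Omega.Stalks.isIso_of_stalk fun x => ?_
  letI := D.stalkMod x
  letI := D'.stalkMod x
  haveI : Module.Flat A ↑(D'.sheaf.presheaf.stalk x) := D'.flat x
  let f : ↑(D.sheaf.presheaf.stalk x) →ₗ[A] ↑(D'.sheaf.presheaf.stalk x) :=
    { toFun := RefHull.stalkMapₗ φ x
      map_add' := map_add _
      map_smul' := fun a v => by
        show RefHull.stalkMapₗ φ x (RefHull.stalkMapₗ (D.act a) x v) =
          RefHull.stalkMapₗ (D'.act a) x (RefHull.stalkMapₗ φ x v)
        rw [← DefoSh.stalkMapₗ_comp_apply, ← DefoSh.stalkMapₗ_comp_apply, hact] }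
  have hpq : ∀ v, RefHull.stalkMapₗ D'.π x (f v) = RefHull.stalkMapₗ D.π x v := fun v => by
    show RefHull.stalkMapₗ D'.π x (RefHull.stalkMapₗ φ x v) = _
    rw [← DefoSh.stalkMapₗ_comp_apply, hπ]
  have hm : IsNilpotent (IsLocalRing.maximalIdeal A) := by
    rw [← IsLocalRing.jacobson_eq_maximalIdeal ⊥ bot_ne_top]
    exact IsArtinianRing.isNilpotent_jacobson_bot
  exact bijective_of_reduction hm f (RefHull.stalkMapₗ D.π x) (RefHull.stalkMapₗ D'.π x) 0 hpq
    (D.surj x) (D.ker_le x) (fun n n' h => D'.ker_le x _ (by rw [map_sub, h, sub_self]))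
    (fun v hv => by rw [← hpq, hv, map_zero])

section Dual

variable (D : DefoSh.Defo E (ArtFun.Art.dual k k))

/-- The action of `ε`. -/
abbrev eps : D.sheaf ⟶ D.sheaf := D.act (DualNumber.eps : DualNumber k)

theorem eps_π : eps D ≫ D.π = 0 := D.act_π (DualNumber.eps : DualNumber k) rfl

theorem act_eq (a : DualNumber k) :
    (D.act a : D.sheaf ⟶ D.sheaf) = a.fst • 𝟙 D.sheaf + a.snd • eps D := by
  have h : a = a.fst • (1 : DualNumber k) + a.snd • (DualNumber.eps : DualNumber k) := by
    ext <;> simp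
  conv_lhs => rw [h]
  refine (map_add D.act _ _).trans ?_
  exact congrArg₂ (· + ·) ((map_smul D.act _ _).trans (congrArg (a.fst • ·) (map_one D.act)))
    (map_smul D.act _ _)

theorem act_π (a : DualNumber k) : (D.act a : D.sheaf ⟶ D.sheaf) ≫ D.π = a.fst • D.π := by
  rw [act_eq, Preadditive.add_comp, Linear.smul_comp, Linear.smul_comp, eps_π, smul_zero, add_zero,
    Category.id_comp]

theorem eps_stalk_eq_zero (x : X) (v : D.sheaf.presheaf.stalk x)
    (h : RefHull.stalkMapₗ (eps D) x v = 0) : RefHull.stalkMapₗ D.π x v = 0 := by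
  letI : Module (DualNumber k) ↑(D.sheaf.presheaf.stalk x) := D.stalkMod x
  haveI : Module.Flat (DualNumber k) ↑(D.sheaf.presheaf.stalk x) := D.flat x
  obtain ⟨n, rfl⟩ := eps_smul_eq_zero (k := k) (m := v) h
  show RefHull.stalkMapₗ D.π x (RefHull.stalkMapₗ (eps D) x n) = 0
  rw [← DefoSh.stalkMapₗ_comp_apply, eps_π, DefoSh.stalkMapₗ_zero_apply]

theorem exists_eps_of_π_eq_zero (x : X) (v : D.sheaf.presheaf.stalk x)
    (h : RefHull.stalkMapₗ D.π x v = 0) : ∃ w, RefHull.stalkMapₗ (eps D) x w = v := by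
  letI : Module (ArtFun.Art.dual k k) ↑(D.sheaf.presheaf.stalk x) := D.stalkMod x
  have hv := D.ker_le x v h
  refine Submodule.smul_induction_on hv (fun a ha w _ => ?_) (fun v w ⟨v', hv'⟩ ⟨w', hw'⟩ =>
    ⟨v' + w', by rw [map_add, hv', hw']⟩)
  rw [ArtFun.Art.mem_maximalIdeal_iff] at ha
  have hb : @Eq (DualNumber k) a
      ((DualNumber.eps : DualNumber k) * (TrivSqZeroExt.inl (TrivSqZeroExt.snd a) : DualNumber k)) := by
    refine TrivSqZeroExt.ext ?_ ?_
    · rw [TrivSqZeroExt.fst_mul, show TrivSqZeroExt.fst (DualNumber.eps : DualNumber k) = 0 from rfl, zero_mul]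
      exact ha
    · simp
  refine ⟨(show ArtFun.Art.dual k k from (TrivSqZeroExt.inl (TrivSqZeroExt.snd a) : DualNumber k)) • w, ?_⟩
  conv_rhs => rw [hb]
  exact (mul_smul (show ArtFun.Art.dual k k from (DualNumber.eps : DualNumber k)) _ w).symm

theorem exists_ι : ∃ ι : E ⟶ D.sheaf, D.π ≫ ι = eps D := by
  haveI := epi_π D
  have hk : kernel.ι D.π ≫ eps D = 0 := ext_stalk fun x t => by
    rw [DefoSh.stalkMapₗ_comp_apply, DefoSh.stalkMapₗ_zero_apply]
    obtain ⟨w, hw⟩ := exists_eps_of_π_eq_zero D x (RefHull.stalkMapₗ (kernel.ι D.π) x t) (by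
      rw [← DefoSh.stalkMapₗ_comp_apply, kernel.condition, DefoSh.stalkMapₗ_zero_apply])
    rw [← hw, ← DefoSh.stalkMapₗ_comp_apply, ← End.mul_def, ← map_mul]
    refine Eq.trans ?_ (DefoSh.stalkMapₗ_zero_apply (M := D.sheaf) (N := D.sheaf) x w)
    refine congrArg (fun ψ : D.sheaf ⟶ D.sheaf => RefHull.stalkMapₗ ψ x w) ?_
    exact (congrArg D.act (DualNumber.eps_mul_eps : (DualNumber.eps * DualNumber.eps : DualNumber k) = 0)).trans
      (map_zero D.act)
  exact ⟨Abelian.epiDesc D.π (eps D) hk, Abelian.comp_epiDesc _ _ _⟩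

variable {ι : E ⟶ D.sheaf} (hι : D.π ≫ ι = eps D)

include hι

theorem ι_π : ι ≫ D.π = 0 := by
  haveI := epi_π D
  rw [← cancel_epi D.π, ← Category.assoc, hι, eps_π, comp_zero]

theorem stalk_ι_injective (x : X) : Function.Injective (RefHull.stalkMapₗ ι x) := by
  rw [injective_iff_map_eq_zero]
  intro e he
  obtain ⟨v, rfl⟩ := D.surj x e
  rw [← DefoSh.stalkMapₗ_comp_apply, hι] at he
  exact eps_stalk_eq_zero D x v he

theorem shortExact : (ShortComplex.mk ι D.π (ι_π D hι)).ShortExact where
  exact := Omega.Stalks.exact_of_stalk _ fun x t ht => by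
    obtain ⟨w, rfl⟩ := exists_eps_of_π_eq_zero D x t ht
    refine ⟨RefHull.stalkMapₗ D.π x w, ?_⟩
    show RefHull.stalkMapₗ ι x _ = _
    rw [← DefoSh.stalkMapₗ_comp_apply, hι]
  mono_f := Omega.Stalks.mono_of_stalk (stalk_ι_injective D hι)
  epi_g := epi_π D

/-- With `E` locally free the sequence `E → D → E` is locally split on sections. -/
theorem locSplit (hE : FlatMod.IsFinLocFree E) : LocSplit ι D.π := by
  intro x
  obtain ⟨U, n, e, hxU, he⟩ := LFFrame.exists_isFrame_of_isFinLocFree hE x
  choose W hW v hxW hv using fun i => exists_lift D (e i) x hxU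
  let U' : X.Opens := ⟨(U : Set X) ∩ ⋂ i, (W i : Set X),
    U.2.inter (isOpen_iInter_of_finite fun i => (W i).2)⟩
  refine ⟨U', ⟨hxU, Set.mem_iInter.2 hxW⟩, fun V hV => ?_⟩
  have hVU : V ≤ U := hV.trans Set.inter_subset_left
  have hVW : ∀ i, V ≤ W i := fun i => hV.trans (Set.inter_subset_right.trans (Set.iInter_subset _ i))
  let c : (Fin n → Γ(X, V)) →ₗ[Γ(X, V)] Γ(E, V) :=
    Fintype.linearCombination Γ(X, V) fun i => E.presheaf.map (homOfLE hVU).op (e i)
  have hc : Function.Bijective c := by
    have : (c : (Fin n → Γ(X, V)) → Γ(E, V)) = LFFrame.comb E e hVU := by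
      funext a
      simp [c, Fintype.linearCombination_apply, LFFrame.comb]
    rw [this]
    exact he V hVU
  let σ : Γ(E, V) →ₗ[Γ(X, V)] Γ(D.sheaf, V) :=
    (Fintype.linearCombination Γ(X, V) fun i => D.sheaf.presheaf.map (homOfLE (hVW i)).op (v i)).comp
      (LinearEquiv.ofBijective c hc).symm.toLinearMap
  have hσ : (secLin D.π V).comp σ = LinearMap.id := by
    refine LinearMap.ext fun m => ?_
    obtain ⟨a, rfl⟩ := hc.2 m
    have : (LinearEquiv.ofBijective c hc).symm (c a) = a :=
      (LinearEquiv.ofBijective c hc).symm_apply_apply a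
    simp only [σ, LinearMap.comp_apply, LinearEquiv.coe_coe, this, LinearMap.id_apply]
    simp only [c, Fintype.linearCombination_apply, map_sum, map_smul]
    refine Finset.sum_congr rfl fun i _ => ?_
    rw [secLin_apply, app_res, hv, LFFrame.res_res]
  obtain ⟨hex, hinj⟩ := sections_exact (shortExact D hι) V
  have hmem : ∀ m, m - σ (secLin D.π V m) ∈ LinearMap.range (secLin ι V) := by
    intro m
    refine (hex _).mp ?_
    show secLin D.π V (m - σ (secLin D.π V m)) = 0
    rw [map_sub, ← LinearMap.comp_apply (secLin D.π V) σ, hσ, LinearMap.id_apply, sub_self]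
  let r : Γ(D.sheaf, V) →ₗ[Γ(X, V)] Γ(E, V) :=
    (LinearEquiv.ofInjective (secLin ι V) hinj).symm.toLinearMap.comp
      ((LinearMap.id - σ.comp (secLin D.π V)).codRestrict _ hmem)
  have hr : ∀ m, secLin ι V (r m) = m - σ (secLin D.π V m) := fun m => by
    have h2 := congrArg Subtype.val ((LinearEquiv.ofInjective (secLin ι V) hinj).apply_symm_apply
      ((LinearMap.id - σ.comp (secLin D.π V)).codRestrict _ hmem m))
    exact h2
  refine ⟨σ, r, LinearMap.ext fun m => hinj ?_, hσ, LinearMap.ext fun m => ?_⟩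
  · show secLin ι V (r (secLin ι V m)) = secLin ι V m
    rw [hr, show secLin D.π V (secLin ι V m) = 0 from (hex _).mpr ⟨m, rfl⟩, map_zero, sub_zero]
  · simp [hr]

end Dual

end Groth.Agent.DefoShLib
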