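import Groth.Agent.DefoShLib.ExtClasses
import Groth.Agent.ModShf.Flasque
import Groth.Agent.HomShEval.QCoh
import Groth.Agent.CohAff.Cech
import Groth.Agent.KoszSh77.Descent
import Groth.Agent.LFFrame.Basic
import Groth.Prelude.Def_RefHull
import Groth.Prelude.Def_DefoSh
import Groth.Prelude.Def_CohB1
import Groth.Prelude.Def_FlatMod2

/-!
# `Ext¹(E, E)` of a vector bundle by Čech cocycles
-/

set_option autoImplicit false
set_option backward.isDefEq.respectTransparency false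
set_option backward.isDefEq.respectTransparency.types false
set_option linter.style.haveILetI false
set_option maxHeartbeats 800000

universe u

open CategoryTheory CategoryTheory.Limits AlgebraicGeometry TopologicalSpace Opposite CategoryTheory.Abelian
open Groth.Agent.PullStalk.Sky Groth.Agent.LFFrame Groth.Agent.CohAff

noncomputable section

namespace Groth.Agent.DefoShLib

/-- The first homology group of the Čech complex, by cocycles. -/
theorem exists_cls {X : TopCat.{u}} {ι : Type u} (P : TopCat.Presheaf AddCommGrpCat.{u} X) (U : ι → Opens X) :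
    ∃ cls : (cd P U 1).ker →+ ↑((mlCech P U).homology 1), Function.Surjective cls ∧
      ∀ c, cls c = 0 ↔ ∃ b, cd P U 0 b = c.1 := by
  let e0 := AddEquiv.ofBijective (cmp P U 0) (cmp_bijective P U 0)
  let e1 := AddEquiv.ofBijective (cmp P U 1) (cmp_bijective P U 1)
  let S := (mlCech P U).sc' 0 1 2
  let K : (cd P U 1).ker →+ AddMonoidHom.ker S.g.hom :=
    { toFun := fun c => ⟨e1.symm c.1, (cmp_bijective P U 2).1 (by
        refine (cmp_d P U 1 (e1.symm c.1)).trans ?_
        rw [show cmp P U 1 (e1.symm c.1) = c.1 from e1.apply_symm_apply c.1, map_zero]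
        exact c.2)⟩
      map_zero' := Subtype.ext (map_zero e1.symm)
      map_add' := fun a b => Subtype.ext (map_add e1.symm a.1 b.1) }
  let eH : (mlCech P U).homology 1 ≅ AddCommGrpCat.of _ :=
    ShortComplex.homologyMapIso ((mlCech P U).isoSc' 0 1 2 (by simp) (by simp)) ≪≫ S.abHomologyIso
  let q := QuotientAddGroup.mk' (AddMonoidHom.range S.abToCycles)
  refine ⟨(eH.inv.hom.comp q).comp K, ?_, fun c => ?_⟩
  · refine (ConcreteCategory.bijective_of_isIso eH.inv).2.comp ((QuotientAddGroup.mk'_surjective _).comp ?_)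
    intro z
    refine ⟨⟨e1 z.1, ?_⟩, Subtype.ext (e1.symm_apply_apply z.1)⟩
    show cd P U 1 (cmp P U 1 z.1) = 0
    rw [← cmp_d]
    exact (congrArg (cmp P U 2) z.2).trans (map_zero _)
  · show eH.inv.hom (q (K c)) = 0 ↔ _
    rw [map_eq_zero_iff _ (ConcreteCategory.bijective_of_isIso eH.inv).1, QuotientAddGroup.mk'_apply,
      QuotientAddGroup.eq_zero_iff, AddMonoidHom.mem_range]
    constructor
    · rintro ⟨w, hw⟩
      refine ⟨cmp P U 0 w, ?_⟩
      rw [← cmp_d]
      exact (congrArg (cmp P U 1) (congrArg Subtype.val hw)).trans (e1.apply_symm_apply c.1)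
    · rintro ⟨b, hb⟩
      refine ⟨e0.symm b, Subtype.ext ((cmp_bijective P U 1).1 ?_)⟩
      refine (cmp_d P U 0 (e0.symm b)).trans ?_
      rw [show cmp P U 0 (e0.symm b) = b from e0.apply_symm_apply b, hb]
      exact (e1.apply_symm_apply c.1).symm

variable {X : Scheme.{u}} {E G : X.Modules}

/-- A local morphism out of a module with a frame, from the values on the frame. -/
theorem exists_hom_frame {U V : X.Opens} {n : ℕ} {e : Fin n → Γ(E, U)} (he : IsFrame E U e) (h : V ≤ U)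
    (a : Fin n → Γ(G, V)) :
    ∃ f : Γ(RefHull.homSh E G, V), ∀ (y : V) j, f.1 y (germM E U y.1 (h y.2) (e j)) = germM G V y.1 y.2 (a j) := by
  let f : ∀ y : V, RefHull.StalkHom E G y.1 := fun y =>
    (Fintype.linearCombination (X.presheaf.stalk y.1) fun j => germM G V y.1 y.2 (a j)).comp
      (LinearEquiv.ofBijective _ (he.stalkComb_bijective y.1 (h y.2))).symm.toLinearMap
  have hf : ∀ (y : V) (c : Fin n → X.presheaf.stalk y.1),
      f y (stalkComb E e y.1 (h y.2) c) = ∑ j, c j • germM G V y.1 y.2 (a j) := fun y c => by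
    show Fintype.linearCombination _ _ ((LinearEquiv.ofBijective _ (he.stalkComb_bijective y.1 (h y.2))).symm
      ((LinearEquiv.ofBijective _ (he.stalkComb_bijective y.1 (h y.2))) c)) = _
    rw [LinearEquiv.symm_apply_apply, Fintype.linearCombination_apply]
  refine ⟨⟨f, fun V' i m x => ?_⟩, fun y j => ?_⟩
  · obtain ⟨c, hc⟩ := (he V' (i.le.trans h)).2 m
    refine ⟨V', x.2, 𝟙 V', ∑ j, c j • QCoh.res G i.le (a j), fun y => ?_⟩
    show f ⟨y.1, i.le y.2⟩ (germM E V' y.1 y.2 m) = germM G V' y.1 y.2 (∑ j, c j • QCoh.res G i.le (a j))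
    rw [← hc, germ_comb]
    refine Eq.trans ?_ (map_sum (G.presheaf.germ V' y.1 y.2).hom _ _).symm
    refine Eq.trans (Eq.trans ?_ (hf ⟨y.1, i.le y.2⟩ fun j => X.presheaf.germ V' y.1 y.2 (c j))) ?_
    · rw [stalkComb, Fintype.linearCombination_apply]
    · refine Finset.sum_congr rfl fun j _ => ?_
      exact ((germM_smul G V' y.1 y.2 (c j) _).trans
        (congrArg (_ • ·) (G.presheaf.germ_res_apply (homOfLE i.le) y.1 y.2 (a j)))).symm
  · classical
    have h1 := hf y (Pi.single j 1)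
    rw [stalkComb, Fintype.linearCombination_apply_single, one_smul] at h1
    refine h1.trans ?_
    simp [Pi.single_apply, Finset.sum_ite_eq']

/-- Stalk maps out of a framed module are determined by the frame. -/
theorem stalkHom_ext_frame {U : X.Opens} {n : ℕ} {e : Fin n → Γ(E, U)} (he : IsFrame E U e) {y : X} (hy : y ∈ U)
    {f f' : RefHull.StalkHom E G y} (h : ∀ j, f (germM E U y hy (e j)) = f' (germM E U y hy (e j))) : f = f' := by
  refine LinearMap.ext fun v => ?_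
  obtain ⟨c, rfl⟩ := (he.stalkComb_bijective y hy).2 v
  rw [stalkComb, Fintype.linearCombination_apply, map_sum, map_sum]
  simp only [map_smul, h]

/-- A compatible global family of stalk maps is a morphism. -/
theorem exists_hom_of_top (g : Γ(RefHull.homSh E G, ⊤)) :
    ∃ φ : E ⟶ G, ∀ y : X, RefHull.stalkMapₗ φ y = g.1 ⟨y, trivial⟩ := by
  obtain ⟨φ, hφ⟩ := KoszSh77.exists_hom_of_basis (M := E) (N := G) (B := Set.univ)
    (Opens.isBasis_iff_nbhd.mpr fun {U x} hx => ⟨U, Set.mem_univ U, hx, le_rfl⟩)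
    (fun U => { toFun := HomShEval.QCoh.app _ _ g le_top
                map_add' := fun a b => HomShEval.QCoh.ext_germ _ _ _ fun y hy => by
                  rw [HomShEval.QCoh.germ_app, HomShEval.QCoh.germM_add, HomShEval.QCoh.germM_add, map_add, HomShEval.QCoh.germ_app,
                    HomShEval.QCoh.germ_app]
                map_smul' := fun r a => HomShEval.QCoh.ext_germ _ _ _ fun y hy => by
                  rw [RingHom.id_apply, HomShEval.QCoh.germ_app, germM_smul, germM_smul, map_smul, HomShEval.QCoh.germ_app] })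
    (fun U V h m => HomShEval.QCoh.ext_germ _ _ _ fun y hy => by
      refine (G.presheaf.germ_res_apply (homOfLE h) y hy _).trans ?_
      refine (HomShEval.QCoh.germ_app _ _ g le_top m y (h hy)).trans ?_
      refine Eq.trans ?_ (HomShEval.QCoh.germ_app _ _ g le_top _ y hy).symm
      exact congrArg (g.1 ⟨y, trivial⟩) (E.presheaf.germ_res_apply (homOfLE h) y hy m).symm)
  refine ⟨φ, fun y => LinearMap.ext fun v => ?_⟩
  obtain ⟨W, hyW, m, rfl⟩ := exists_germM_eq E y v
  refine (RefHull.stalkMapₗ_germ φ y hyW m).trans ?_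
  rw [hφ ⟨W, Set.mem_univ W⟩ m]
  exact HomShEval.QCoh.germ_app _ _ g le_top m y hyW

/-- Values of restrictions of sections of the sheaf Hom. -/
theorem val_res {U V : X.Opens} (h : V ≤ U) (s : ↑((RefHull.homSh E G).presheaf.obj (op U))) (y : V)
    (v : E.presheaf.stalk y.1) :
    (res (RefHull.homSh E G).presheaf h s).1 y v = s.1 ⟨y.1, h y.2⟩ v := rfl

theorem val_add {V : X.Opens} (a b : ↑((RefHull.homSh E G).presheaf.obj (op V))) (y : V)
    (v : E.presheaf.stalk y.1) : (a + b).1 y v = a.1 y v + b.1 y v := rfl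

theorem val_neg {V : X.Opens} (a : ↑((RefHull.homSh E G).presheaf.obj (op V))) (y : V)
    (v : E.presheaf.stalk y.1) : (-a).1 y v = -(a.1 y v) := rfl

theorem val_zero {V : X.Opens} (y : V) (v : E.presheaf.stalk y.1) :
    (0 : ↑((RefHull.homSh E G).presheaf.obj (op V))).1 y v = 0 := rfl

theorem cd_zero_val {ι : Type u} {U : ι → X.Opens} (b : Cochain (RefHull.homSh E G).presheaf U 0) (x : Fin 2 → ι)
    (y : ↥(inter U x)) (v : E.presheaf.stalk y.1) :
    (cd (RefHull.homSh E G).presheaf U 0 b x).1 y v =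
      (b (x ∘ Fin.succAbove 0)).1 ⟨y.1, inter_comp_le U x _ y.2⟩ v -
        (b (x ∘ Fin.succAbove 1)).1 ⟨y.1, inter_comp_le U x _ y.2⟩ v := by
  rw [cd_apply, Fin.sum_univ_two]
  simp only [Fin.val_zero, Fin.val_one, pow_zero, pow_one, one_zsmul, neg_zsmul]
  rw [val_add, val_neg, val_res, val_res, ← sub_eq_add_neg]

theorem cd_one_val {ι : Type u} {U : ι → X.Opens} (c : Cochain (RefHull.homSh E G).presheaf U 1) (x : Fin 3 → ι)
    (y : ↥(inter U x)) (v : E.presheaf.stalk y.1) :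
    (cd (RefHull.homSh E G).presheaf U 1 c x).1 y v =
      (c (x ∘ Fin.succAbove 0)).1 ⟨y.1, inter_comp_le U x _ y.2⟩ v -
        (c (x ∘ Fin.succAbove 1)).1 ⟨y.1, inter_comp_le U x _ y.2⟩ v +
        (c (x ∘ Fin.succAbove 2)).1 ⟨y.1, inter_comp_le U x _ y.2⟩ v := by
  rw [cd_apply, Fin.sum_univ_three]
  simp only [Fin.val_zero, Fin.val_one, Fin.val_two, pow_zero, pow_one, one_zsmul, neg_zsmul, neg_one_sq]
  rw [val_add, val_add, val_neg, val_res, val_res, val_res, ← sub_eq_add_neg]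

section Theta

variable {I Q : X.Modules} {j : E ⟶ I} {π : I ⟶ Q} {h0 : j ≫ π = 0}
  {ι : Type u} {U : ι → X.Opens}

/-- Local lifts of `g : E → Q` to `I`. -/
def IsLifts (π : I ⟶ Q) (g : E ⟶ Q) (U : ι → X.Opens) (s : ∀ i, Γ(RefHull.homSh E I, U i)) : Prop :=
  ∀ i (y : U i) v, RefHull.stalkMapₗ π y.1 ((s i).1 y v) = RefHull.stalkMapₗ g y.1 v

/-- `c` is the difference of the lifts. -/
def IsDiff (j : E ⟶ I) (U : ι → X.Opens) (s : ∀ i, Γ(RefHull.homSh E I, U i))
    (c : Cochain (RefHull.homSh E E).presheaf U 1) : Prop :=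
  ∀ (x : Fin 2 → ι) (y : ↥(inter U x)) v,
    RefHull.stalkMapₗ j y.1 ((c x).1 y v) =
      (s (x 1)).1 ⟨y.1, inter_le U x 1 y.2⟩ v - (s (x 0)).1 ⟨y.1, inter_le U x 0 y.2⟩ v

variable (hS : (ShortComplex.mk j π h0).ShortExact)
include hS

theorem stalk_j_injective (y : X) : Function.Injective (RefHull.stalkMapₗ j y) :=
  (PullStalk.Exact.stalk_exact hS y).1

variable {n : ι → ℕ} (e : ∀ i, Fin (n i) → Γ(E, U i)) (he : ∀ i, IsFrame E (U i) (e i))
include he

theorem exists_lifts [E.IsQuasicoherent] (hU : ∀ i, IsAffineOpen (U i)) (g : E ⟶ Q) :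
    ∃ s, IsLifts π g U s := by
  haveI : (ShortComplex.mk j π h0).X₁.IsQuasicoherent := ‹E.IsQuasicoherent›
  choose a ha using fun i k => QCoh.app_surjective_of_shortExact (hU i) (ShortComplex.mk j π h0) hS (g.app (U i) (e i k))
  choose s hs using fun i => exists_hom_frame (he i) (le_refl (U i)) (a i)
  refine ⟨s, fun i y v => ?_⟩
  refine LinearMap.congr_fun (stalkHom_ext_frame (he i) y.2
    (f := (RefHull.stalkMapₗ π y.1).comp ((s i).1 y)) (f' := RefHull.stalkMapₗ g y.1) fun k => ?_) v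
  rw [LinearMap.comp_apply, hs i y k]
  refine (RefHull.stalkMapₗ_germ π _ _ _).trans ((congrArg _ (ha i k)).trans ?_)
  exact (RefHull.stalkMapₗ_germ g _ _ _).symm

theorem exists_diff (g : E ⟶ Q) (s : ∀ i, Γ(RefHull.homSh E I, U i)) (hs : IsLifts π g U s) :
    ∃ c, IsDiff j U s c := by
  haveI : Mono (ShortComplex.mk j π h0).f := hS.mono_f
  have key : ∀ (x : Fin 2 → ι) k, ∃ m : Γ(E, inter U x), j.app (inter U x) m =
      HomShEval.QCoh.app _ _ (s (x 1)) (inter_le U x 1) (QCoh.res E (inter_le U x 0) (e (x 0) k)) -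
        HomShEval.QCoh.app _ _ (s (x 0)) (inter_le U x 0) (QCoh.res E (inter_le U x 0) (e (x 0) k)) := by
    intro x k
    refine QCoh.exists_app_eq_of_app_eq_zero (ShortComplex.mk j π h0) hS.exact _ _ ?_
    rw [map_sub, sub_eq_zero]
    refine HomShEval.QCoh.ext_germ _ _ _ fun y hy => ?_
    refine (RefHull.stalkMapₗ_germ π y hy _).symm.trans (Eq.trans ?_ (RefHull.stalkMapₗ_germ π y hy _))
    refine (congrArg (RefHull.stalkMapₗ π y) (HomShEval.QCoh.germ_app _ _ _ _ _ y hy)).trans ?_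
    refine Eq.trans ?_ (congrArg (RefHull.stalkMapₗ π y) (HomShEval.QCoh.germ_app _ _ _ _ _ y hy)).symm
    exact (hs (x 1) ⟨y, inter_le U x 1 hy⟩ _).trans (hs (x 0) ⟨y, inter_le U x 0 hy⟩ _).symm
  choose m hm using key
  choose c hc using fun x : Fin 2 → ι => exists_hom_frame (he (x 0)) (inter_le U x 0) (m x)
  refine ⟨c, fun x y v => ?_⟩
  refine LinearMap.congr_fun (stalkHom_ext_frame (he (x 0)) (inter_le U x 0 y.2)
    (f := (RefHull.stalkMapₗ j y.1).comp ((c x).1 y))
    (f' := (s (x 1)).1 ⟨y.1, inter_le U x 1 y.2⟩ - (s (x 0)).1 ⟨y.1, inter_le U x 0 y.2⟩) fun k => ?_) v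
  rw [LinearMap.comp_apply, hc x y k]
  refine (RefHull.stalkMapₗ_germ j _ _ _).trans ?_
  rw [hm x k]
  refine (map_sub (I.presheaf.germ (inter U x) y.1 y.2).hom _ _).trans ?_
  refine congrArg₂ (· - ·) ?_ ?_
  · exact (HomShEval.QCoh.germ_app _ _ _ _ _ y.1 y.2).trans (congrArg _ (E.presheaf.germ_res_apply (homOfLE (inter_le U x 0)) y.1 y.2 _))
  · exact (HomShEval.QCoh.germ_app _ _ _ _ _ y.1 y.2).trans (congrArg _ (E.presheaf.germ_res_apply (homOfLE (inter_le U x 0)) y.1 y.2 _))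

omit he in
theorem isDiff_cocycle (s : ∀ i, Γ(RefHull.homSh E I, U i)) (c : Cochain (RefHull.homSh E E).presheaf U 1)
    (hc : IsDiff j U s c) : cd (RefHull.homSh E E).presheaf U 1 c = 0 := by
  funext x
  refine Subtype.ext (funext fun y => LinearMap.ext fun v => stalk_j_injective hS y.1 ?_)
  refine Eq.trans ?_ (congrArg (RefHull.stalkMapₗ j y.1) (val_zero (E := E) (G := E) (V := inter U x) y v).symm)
  rw [cd_one_val c x y v, map_add, map_sub, map_zero]
  have h0 := hc (x ∘ Fin.succAbove 0) ⟨y.1, inter_comp_le U x _ y.2⟩ v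
  have h1 := hc (x ∘ Fin.succAbove 1) ⟨y.1, inter_comp_le U x _ y.2⟩ v
  have h2 := hc (x ∘ Fin.succAbove 2) ⟨y.1, inter_comp_le U x _ y.2⟩ v
  rw [h0, h1, h2]
  show (s (x 2)).1 ⟨y.1, inter_le U x 2 y.2⟩ v - (s (x 1)).1 ⟨y.1, inter_le U x 1 y.2⟩ v -
    ((s (x 2)).1 ⟨y.1, inter_le U x 2 y.2⟩ v - (s (x 0)).1 ⟨y.1, inter_le U x 0 y.2⟩ v) +
    ((s (x 1)).1 ⟨y.1, inter_le U x 1 y.2⟩ v - (s (x 0)).1 ⟨y.1, inter_le U x 0 y.2⟩ v) = 0
  abel

omit he in
theorem isDiff_unique (s : ∀ i, Γ(RefHull.homSh E I, U i)) (c c' : Cochain (RefHull.homSh E E).presheaf U 1)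
    (hc : IsDiff j U s c) (hc' : IsDiff j U s c') : c = c' :=
  funext fun x => Subtype.ext (funext fun y => LinearMap.ext fun v =>
    stalk_j_injective hS y.1 ((hc x y v).trans (hc' x y v).symm))

/-- Differences of lifts of zero are coboundaries. -/
theorem exists_b_of_lifts_zero (s : ∀ i, Γ(RefHull.homSh E I, U i)) (hs : IsLifts π 0 U s) :
    ∃ b : Cochain (RefHull.homSh E E).presheaf U 0, ∀ (x : Fin 1 → ι) (y : ↥(inter U x)) v,
      RefHull.stalkMapₗ j y.1 ((b x).1 y v) = (s (x 0)).1 ⟨y.1, inter_le U x 0 y.2⟩ v := by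
  haveI : Mono (ShortComplex.mk j π h0).f := hS.mono_f
  have key : ∀ (x : Fin 1 → ι) k, ∃ m : Γ(E, inter U x), j.app (inter U x) m =
      HomShEval.QCoh.app _ _ (s (x 0)) (inter_le U x 0) (QCoh.res E (inter_le U x 0) (e (x 0) k)) := by
    intro x k
    refine QCoh.exists_app_eq_of_app_eq_zero (ShortComplex.mk j π h0) hS.exact _ _ ?_
    refine HomShEval.QCoh.ext_germ _ _ _ fun y hy => ?_
    refine (RefHull.stalkMapₗ_germ π y hy _).symm.trans ?_
    refine (congrArg (RefHull.stalkMapₗ π y) (HomShEval.QCoh.germ_app _ _ _ _ _ y hy)).trans ?_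
    refine (hs (x 0) ⟨y, inter_le U x 0 hy⟩ _).trans ?_
    obtain ⟨W, hW, m, hm⟩ := exists_germM_eq E y (germM E (inter U x) y hy (QCoh.res E (inter_le U x 0) (e (x 0) k)))
    rw [← hm]
    refine (RefHull.stalkMapₗ_germ (0 : E ⟶ Q) y hW m).trans ?_
    exact (map_zero (Q.presheaf.germ W y hW).hom).trans (map_zero (Q.presheaf.germ (inter U x) y hy).hom).symm
  choose m hm using key
  choose b hb using fun x : Fin 1 → ι => exists_hom_frame (he (x 0)) (inter_le U x 0) (m x)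
  refine ⟨b, fun x y v => ?_⟩
  refine LinearMap.congr_fun (stalkHom_ext_frame (he (x 0)) (inter_le U x 0 y.2)
    (f := (RefHull.stalkMapₗ j y.1).comp ((b x).1 y)) (f' := (s (x 0)).1 ⟨y.1, inter_le U x 0 y.2⟩) fun k => ?_) v
  rw [LinearMap.comp_apply, hb x y k]
  refine (RefHull.stalkMapₗ_germ j _ _ _).trans ?_
  rw [hm x k]
  exact (HomShEval.QCoh.germ_app _ _ _ _ _ y.1 y.2).trans (congrArg _ (E.presheaf.germ_res_apply (homOfLE (inter_le U x 0)) y.1 y.2 _))

/-- The class of a map does not depend on the lifts. -/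
theorem exists_cd_eq (g : E ⟶ Q) (s s' : ∀ i, Γ(RefHull.homSh E I, U i)) (hs : IsLifts π g U s)
    (hs' : IsLifts π g U s') (c c' : Cochain (RefHull.homSh E E).presheaf U 1)
    (hc : IsDiff j U s c) (hc' : IsDiff j U s' c') :
    ∃ b, cd (RefHull.homSh E E).presheaf U 0 b = c - c' := by
  obtain ⟨b, hb⟩ := exists_b_of_lifts_zero hS e he (fun i => s i - s' i) fun i y v => by
    show RefHull.stalkMapₗ π y.1 ((s i).1 y v - (s' i).1 y v) = _
    rw [map_sub, hs, hs', sub_self]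
    obtain ⟨W, hW, m, rfl⟩ := exists_germM_eq E y.1 v
    exact ((RefHull.stalkMapₗ_germ (0 : E ⟶ Q) y.1 hW m).trans (map_zero (Q.presheaf.germ W y.1 hW).hom)).symm
  refine ⟨b, funext fun x => Subtype.ext (funext fun y => LinearMap.ext fun v => stalk_j_injective hS y.1 ?_)⟩
  show _ = RefHull.stalkMapₗ j y.1 ((c x).1 y v - (c' x).1 y v)
  rw [cd_zero_val b x y v, map_sub, map_sub]
  have h0 := hb (x ∘ Fin.succAbove 0) ⟨y.1, inter_comp_le U x _ y.2⟩ v
  have h1 := hb (x ∘ Fin.succAbove 1) ⟨y.1, inter_comp_le U x _ y.2⟩ v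
  rw [h0, h1, hc x y v, hc' x y v]
  show ((s (x 1)).1 ⟨y.1, inter_le U x 1 y.2⟩ v - (s' (x 1)).1 ⟨y.1, inter_le U x 1 y.2⟩ v) - ((s (x 0)).1 ⟨y.1, inter_le U x 0 y.2⟩ v - (s' (x 0)).1 ⟨y.1, inter_le U x 0 y.2⟩ v) = _
  abel

/-- The map `Hom(E, Q) → Ȟ¹(U, End E)`. -/
theorem exists_theta [E.IsQuasicoherent] (hU : ∀ i, IsAffineOpen (U i)) (hcov : iSup U = ⊤) :
    ∃ θ : (E ⟶ Q) →+ ↑(CohB1.cechH U (RefHull.homSh E E) 1),
      (∀ g, θ g = 0 ↔ ∃ G : E ⟶ I, G ≫ π = g) ∧
      ∀ g (s : ∀ i, Γ(RefHull.homSh E I, U i)), IsLifts π g U s → ∀ c, IsDiff j U s c →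
        ∀ cls : (cd (RefHull.homSh E E).presheaf U 1).ker →+ ↑((mlCech (RefHull.homSh E E).presheaf U).homology 1),
          cls = (exists_cls (RefHull.homSh E E).presheaf U).choose →
          ∃ h : c ∈ (cd (RefHull.homSh E E).presheaf U 1).ker, θ g = cls ⟨c, h⟩ := by
  obtain ⟨hsurj, hker⟩ := (exists_cls (RefHull.homSh E E).presheaf U).choose_spec
  set cls := (exists_cls (RefHull.homSh E E).presheaf U).choose
  choose s hs using fun g : E ⟶ Q => exists_lifts hS e he hU g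
  choose c hc using fun g : E ⟶ Q => exists_diff hS e he g (s g) (hs g)
  have hmem : ∀ g, c g ∈ (cd (RefHull.homSh E E).presheaf U 1).ker := fun g => isDiff_cocycle hS _ _ (hc g)
  let θ : (E ⟶ Q) → ↑(CohB1.cechH U (RefHull.homSh E E) 1) := fun g => cls ⟨c g, hmem g⟩
  have hθ : ∀ g s' c', IsLifts π g U s' → IsDiff j U s' c' → ∀ h : c' ∈ (cd (RefHull.homSh E E).presheaf U 1).ker,
      θ g = cls ⟨c', h⟩ := by
    intro g s' c' hs' hc' h
    show cls ⟨c g, hmem g⟩ = cls ⟨c', h⟩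
    rw [← sub_eq_zero, ← map_sub, hker]
    exact exists_cd_eq hS e he g (s g) s' (hs g) hs' (c g) c' (hc g) hc'
  have hsm : ∀ (g g' : E ⟶ Q) (y : X) v,
      RefHull.stalkMapₗ (g + g') y v = RefHull.stalkMapₗ g y v + RefHull.stalkMapₗ g' y v := by
    intro g g' y v
    obtain ⟨W, hW, m, rfl⟩ := exists_germM_eq E y v
    exact (RefHull.stalkMapₗ_germ (g + g') y hW m).trans ((map_add (Q.presheaf.germ W y hW).hom _ _).trans
      (congrArg₂ (· + ·) (RefHull.stalkMapₗ_germ g y hW m).symm (RefHull.stalkMapₗ_germ g' y hW m).symm))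
  refine ⟨AddMonoidHom.mk' θ fun g g' => ?_, fun g => ?_, fun g s' hs' c' hc' cls' hcls' => ?_⟩
  · refine (hθ (g + g') (fun i => s g i + s g' i) (c g + c g') (fun i y v => ?_) (fun x y v => ?_)
      ((cd (RefHull.homSh E E).presheaf U 1).ker.add_mem (hmem g) (hmem g'))).trans (map_add cls ⟨c g, hmem g⟩ ⟨c g', hmem g'⟩)
    · show RefHull.stalkMapₗ π y.1 ((s g i).1 y v + (s g' i).1 y v) = _
      rw [map_add, hs g, hs g', hsm]
    · show RefHull.stalkMapₗ j y.1 ((c g x).1 y v + (c g' x).1 y v) = (_ + _) - (_ + _)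
      rw [map_add, hc g, hc g']
      abel
  · constructor
    · intro h
      obtain ⟨b, hb⟩ := (hker ⟨c g, hmem g⟩).mp h
      change cd (RefHull.homSh E E).presheaf U 0 b = c g at hb
      choose pb hpb using fun i => (exists_hom_frame (G := I) (he i) (le_refl (U i))
        (fun k => HomShEval.QCoh.app _ _ (s g i) le_rfl (e i k) - j.app (U i) (HomShEval.QCoh.app _ _ (b fun _ => i)
          (le_inter fun _ => le_rfl) (e i k))))
      have hpb' : ∀ i (y : U i) v, (pb i).1 y v = (s g i).1 y v -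
          RefHull.stalkMapₗ j y.1 ((b fun _ => i).1 ⟨y.1, le_inter (fun _ => le_rfl) y.2⟩ v) := by
        intro i y v
        refine LinearMap.congr_fun (stalkHom_ext_frame (he i) y.2 (f := (pb i).1 y) (f' := (s g i).1 y -
          (RefHull.stalkMapₗ j y.1).comp ((b fun _ => i).1 ⟨y.1, le_inter (fun _ => le_rfl) y.2⟩)) fun k => ?_) v
        rw [hpb i y k]
        refine (map_sub (I.presheaf.germ (U i) y.1 y.2).hom _ _).trans (congrArg₂ (· - ·) ?_ ?_)
        · exact HomShEval.QCoh.germ_app _ _ _ _ _ y.1 y.2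
        · refine (RefHull.stalkMapₗ_germ j y.1 y.2 _).symm.trans ?_
          exact congrArg (RefHull.stalkMapₗ j y.1) (HomShEval.QCoh.germ_app _ _ _ _ _ y.1 y.2)
      have hind : ∀ i i' (y : X) (hy : y ∈ U i) (hy' : y ∈ U i'), (pb i).1 ⟨y, hy⟩ = (pb i').1 ⟨y, hy'⟩ := by
        intro i i' y hy hy'
        refine LinearMap.ext fun v => ?_
        have hy2 : y ∈ inter U ![i, i'] := mem_inter.mpr fun a => by fin_cases a <;> assumption
        have h1 := hc g ![i, i'] ⟨y, hy2⟩ v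
        rw [← hb, cd_zero_val b ![i, i'] ⟨y, hy2⟩ v, map_sub] at h1
        have hval : ∀ (x : Fin 1 → ι) l, x = (fun _ => l) → ∀ (h₁ : y ∈ inter U x) (h₂ : y ∈ inter U fun _ : Fin 1 => l),
            (b x).1 ⟨y, h₁⟩ v = (b fun _ => l).1 ⟨y, h₂⟩ v := by
          rintro x l rfl h₁ h₂
          rfl
        have e0 : (![i, i'] ∘ Fin.succAbove 0) = fun _ : Fin 1 => i' := funext fun a => by fin_cases a; rfl
        have e1 : (![i, i'] ∘ Fin.succAbove 1) = fun _ : Fin 1 => i := funext fun a => by fin_cases a; rfl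
        rw [hval _ _ e0 _ (le_inter (fun _ => le_rfl) hy'), hval _ _ e1 _ (le_inter (fun _ => le_rfl) hy)] at h1
        rw [hpb' i ⟨y, hy⟩ v, hpb' i' ⟨y, hy'⟩ v]
        change RefHull.stalkMapₗ j y _ - RefHull.stalkMapₗ j y _ = (s g i').1 ⟨y, hy'⟩ v - (s g i).1 ⟨y, hy⟩ v at h1
        rw [sub_eq_sub_iff_add_eq_add] at h1 ⊢
        rw [add_comm ((s g i).1 ⟨y, hy⟩ v), h1, add_comm]
      have hmem' : ∀ y : X, ∃ i, y ∈ U i := fun y => Opens.mem_iSup.mp (hcov ▸ (trivial : y ∈ (⊤ : X.Opens)))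
      choose idx hidx using hmem'
      let F : ∀ y : (⊤ : X.Opens), RefHull.StalkHom E I y.1 := fun y => (pb (idx y.1)).1 ⟨y.1, hidx y.1⟩
      have hF : RefHull.IsLocSect E I F := by
        intro V i m x
        obtain ⟨W, hxW, k, w, hw⟩ := RefHull.isLocSect_of_mem (pb (idx x.1)) (V ⊓ U (idx x.1))
          (homOfLE inf_le_right) (QCoh.res E inf_le_left m) ⟨x.1, x.2, hidx x.1⟩
        refine ⟨W, hxW, k ≫ homOfLE inf_le_left, w, fun y => ?_⟩
        refine Eq.trans ?_ (hw y)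
        show F ⟨y.1, _⟩ _ = (pb (idx x.1)).1 ⟨y.1, _⟩ _
        refine (congrArg (fun f : RefHull.StalkHom E I y.1 => f _) (hind (idx y.1) (idx x.1) y.1 _ (k.le y.2).2)).trans ?_
        exact congrArg _ (E.presheaf.germ_res_apply (homOfLE (inf_le_left : V ⊓ U (idx x.1) ≤ V)) y.1 (k.le y.2) m).symm
      obtain ⟨G', hG'⟩ := exists_hom_of_top (⟨F, hF⟩ : Γ(RefHull.homSh E I, ⊤))
      refine ⟨G', Omega.Stalks.hom_ext_stalk fun y => LinearMap.ext fun v => ?_⟩
      show RefHull.stalkMapₗ (G' ≫ π) y v = RefHull.stalkMapₗ g y v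
      rw [DefoSh.stalkMapₗ_comp_apply, hG' y]
      show RefHull.stalkMapₗ π y ((pb (idx y)).1 ⟨y, hidx y⟩ v) = _
      rw [hpb' (idx y) ⟨y, hidx y⟩ v, map_sub, hs g (idx y) ⟨y, hidx y⟩ v, ← DefoSh.stalkMapₗ_comp_apply]
      obtain ⟨W, hW, m, hm⟩ := exists_germM_eq E y ((b fun _ => idx y).1 ⟨y, _⟩ v)
      rw [← hm]
      refine (congrArg (_ - ·) ((RefHull.stalkMapₗ_germ (j ≫ π) y hW m).trans ?_)).trans (sub_zero _)
      rw [h0]
      exact map_zero (Q.presheaf.germ W y hW).hom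
    · rintro ⟨G', rfl⟩
      choose t ht using fun i => exists_hom_frame (G := I) (he i) (le_refl (U i)) (fun k => G'.app (U i) (e i k))
      have ht' : ∀ i (y : U i), (t i).1 y = RefHull.stalkMapₗ G' y.1 := fun i y =>
        stalkHom_ext_frame (he i) y.2 fun k => (ht i y k).trans (RefHull.stalkMapₗ_germ G' y.1 y.2 _).symm
      have hz : (0 : Cochain (RefHull.homSh E E).presheaf U 1) ∈ (cd (RefHull.homSh E E).presheaf U 1).ker := map_zero _
      refine (hθ (G' ≫ π) t 0 (fun i y v => ?_) (fun x y v => ?_) hz).trans (map_zero cls)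
      · rw [ht', DefoSh.stalkMapₗ_comp_apply]
      · rw [ht', ht']
        show RefHull.stalkMapₗ j y.1 0 = _
        rw [map_zero, sub_self]
  · subst hcls'
    exact ⟨isDiff_cocycle hS _ _ hc', hθ g s' c' hs' hc' _⟩

end Theta

end Groth.Agent.DefoShLib
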