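import Groth.Agent.DefoShLib.CechExt
import Groth.Agent.ModShf.GrothAb
import Groth.Agent.PerfTri.Betti

/-!
# `Ext¹(E, E) ≅ Ȟ¹(U, End E)` for a cover by two affine opens
-/

set_option autoImplicit false
set_option backward.isDefEq.respectTransparency false
set_option backward.isDefEq.respectTransparency.types false
set_option linter.style.haveILetI false
set_option maxHeartbeats 800000

universe u

open CategoryTheory CategoryTheory.Limits AlgebraicGeometry TopologicalSpace Opposite CategoryTheory.Abelian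
open Groth.Agent.PullStalk.Sky Groth.Agent.LFFrame Groth.Agent.CohAff

noncomputable section

namespace Groth.Agent.DefoShLib

variable {X : Scheme.{u}} {E : X.Modules}

/-- A trivialization gives a frame. -/
theorem exists_isFrame_of_iso {U : X.Opens} {n : ℕ} (φ : E.restrict U.ι ≅ FlatMod.freeMod (U : Scheme.{u}) n) :
    ∃ e : Fin n → Γ(E, U), IsFrame E U e := by
  classical
  let p : Fin n → (FlatMod.freeMod (U : Scheme.{u}) n ⟶ Coh.structureModule (U : Scheme.{u})) :=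
    fun j => Sigma.desc fun i => if i = j then 𝟙 _ else 0
  exact exists_isFrame_of_split (M := E)
    (fun i => Sigma.ι (fun _ : Fin n => Coh.structureModule (U : Scheme.{u})) i ≫ φ.inv)
    (fun j => φ.hom ≫ p j) (fun i j => by simp [p]) (by
      rw [← cancel_epi φ.inv, ← cancel_mono φ.hom]
      apply Sigma.hom_ext
      intro j
      simp [p, Preadditive.comp_sum, Preadditive.sum_comp, Finset.sum_ite_eq', ite_comp])

/-- Glue a family of local lifts with differences in `E` to a morphism to the quotient. -/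
theorem exists_g_of_diff {I Q : X.Modules} {j : E ⟶ I} {π : I ⟶ Q} (h0 : j ≫ π = 0)
    {ι : Type u} {U : ι → X.Opens} (hcov : iSup U = ⊤) (s : ∀ i, Γ(RefHull.homSh E I, U i))
    (c : Cochain (RefHull.homSh E E).presheaf U 1) (hc : IsDiff j U s c) :
    ∃ g : E ⟶ Q, IsLifts π g U s := by
  have hπj : ∀ (y : X) w, RefHull.stalkMapₗ π y (RefHull.stalkMapₗ j y w) = 0 := by
    intro y w
    rw [← DefoSh.stalkMapₗ_comp_apply]
    obtain ⟨W, hW, m, rfl⟩ := exists_germM_eq E y w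
    refine (RefHull.stalkMapₗ_germ (j ≫ π) y hW m).trans ?_
    rw [h0]
    exact map_zero (Q.presheaf.germ W y hW).hom
  have hind : ∀ i i' (y : X) (hy : y ∈ U i) (hy' : y ∈ U i'),
      (RefHull.stalkMapₗ π y).comp ((s i).1 ⟨y, hy⟩) = (RefHull.stalkMapₗ π y).comp ((s i').1 ⟨y, hy'⟩) := by
    intro i i' y hy hy'
    refine LinearMap.ext fun v => ?_
    have hy2 : y ∈ inter U ![i, i'] := mem_inter.mpr fun a => by fin_cases a <;> assumption
    have h2 : RefHull.stalkMapₗ π y ((s i').1 ⟨y, hy'⟩ v - (s i).1 ⟨y, hy⟩ v) = 0 :=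
      (congrArg (RefHull.stalkMapₗ π y) (hc ![i, i'] ⟨y, hy2⟩ v)).symm.trans (hπj y _)
    rw [map_sub, sub_eq_zero] at h2
    exact h2.symm
  have hmem' : ∀ y : X, ∃ i, y ∈ U i := fun y => Opens.mem_iSup.mp (hcov ▸ (trivial : y ∈ (⊤ : X.Opens)))
  choose idx hidx using hmem'
  let F : ∀ y : (⊤ : X.Opens), RefHull.StalkHom E Q y.1 := fun y =>
    (RefHull.stalkMapₗ π y.1).comp ((s (idx y.1)).1 ⟨y.1, hidx y.1⟩)
  have hF : RefHull.IsLocSect E Q F := by
    intro V i m x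
    obtain ⟨W, hxW, k, w, hw⟩ := RefHull.isLocSect_of_mem (s (idx x.1)) (V ⊓ U (idx x.1))
      (homOfLE inf_le_right) (QCoh.res E inf_le_left m) ⟨x.1, x.2, hidx x.1⟩
    refine ⟨W, hxW, k ≫ homOfLE inf_le_left, π.app W w, fun y => ?_⟩
    refine Eq.trans ?_ ((congrArg (RefHull.stalkMapₗ π y.1) (hw y)).trans (RefHull.stalkMapₗ_germ π y.1 y.2 w))
    show F ⟨y.1, _⟩ _ = ((RefHull.stalkMapₗ π y.1).comp ((s (idx x.1)).1 ⟨y.1, _⟩)) _
    refine (congrArg (fun f : RefHull.StalkHom E Q y.1 => f _) (hind (idx y.1) (idx x.1) y.1 _ (k.le y.2).2)).trans ?_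
    exact congrArg _ (E.presheaf.germ_res_apply (homOfLE (inf_le_left : V ⊓ U (idx x.1) ≤ V)) y.1 (k.le y.2) m).symm
  obtain ⟨g, hg⟩ := exists_hom_of_top (⟨F, hF⟩ : Γ(RefHull.homSh E Q, ⊤))
  refine ⟨g, fun i y v => ?_⟩
  refine Eq.trans ?_ (LinearMap.congr_fun (hg y.1) v).symm
  exact LinearMap.congr_fun (hind i (idx y.1) y.1 y.2 (hidx y.1)) v

/-- A cocycle of a two element cover is the difference of lifts into an injective module. -/
theorem exists_lifts_of_cocycle {I : X.Modules} [Injective I] (j : E ⟶ I)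
    (U : ULift.{u} (Fin 2) → X.Opens) {n : ℕ} (e : Fin n → Γ(E, U ⟨0⟩)) (he : IsFrame E (U ⟨0⟩) e)
    (c : Cochain (RefHull.homSh E E).presheaf U 1) (hc : cd (RefHull.homSh E E).presheaf U 1 c = 0) :
    ∃ s : ∀ i, Γ(RefHull.homSh E I, U i), IsDiff j U s c := by
  have hval : ∀ (x x' : Fin 2 → ULift.{u} (Fin 2)), x = x' → ∀ (y : X) (h : y ∈ inter U x) (h' : y ∈ inter U x') v,
      (c x).1 ⟨y, h⟩ v = (c x').1 ⟨y, h'⟩ v := by
    rintro x _ rfl y h h' v
    rfl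
  have hco : ∀ a b d (y : X) (hbd : y ∈ inter U ![b, d]) (had : y ∈ inter U ![a, d]) (hab : y ∈ inter U ![a, b]) v,
      (c ![b, d]).1 ⟨y, hbd⟩ v - (c ![a, d]).1 ⟨y, had⟩ v + (c ![a, b]).1 ⟨y, hab⟩ v = 0 := by
    intro a b d y hbd had hab v
    have hy : y ∈ inter U ![a, b, d] := mem_inter.mpr fun l => by
      fin_cases l
      · exact inter_le U ![a, b] 0 hab
      · exact inter_le U ![a, b] 1 hab
      · exact inter_le U ![a, d] 1 had
    have h1 := cd_one_val c ![a, b, d] ⟨y, hy⟩ v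
    rw [hc] at h1
    have e0 : (![a, b, d] ∘ Fin.succAbove 0) = ![b, d] := funext fun l => by fin_cases l <;> rfl
    have e1 : (![a, b, d] ∘ Fin.succAbove 1) = ![a, d] := funext fun l => by fin_cases l <;> rfl
    have e2 : (![a, b, d] ∘ Fin.succAbove 2) = ![a, b] := funext fun l => by fin_cases l <;> rfl
    rw [hval _ _ e0 y _ hbd v, hval _ _ e1 y _ had v, hval _ _ e2 y _ hab v] at h1
    exact h1.symm
  have hdiag : ∀ a (y : X) (h : y ∈ inter U ![a, a]) v, (c ![a, a]).1 ⟨y, h⟩ v = 0 := by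
    intro a y h v
    have h1 := hco a a a y h h h v
    rwa [sub_self, zero_add] at h1
  have hle : inter U ![(⟨0⟩ : ULift.{u} (Fin 2)), ⟨1⟩] ≤ U ⟨0⟩ := inter_le U ![(⟨0⟩ : ULift.{u} (Fin 2)), ⟨1⟩] 0
  haveI : Mono (homOfLE hle) := ⟨fun _ _ _ => Subsingleton.elim _ _⟩
  choose a ha using fun k => ModShf.surjective_map_of_injective X.ringCatSheaf I (homOfLE hle)
    (- j.app _ (HomShEval.QCoh.app _ _ (c ![(⟨0⟩ : ULift.{u} (Fin 2)), ⟨1⟩]) le_rfl (QCoh.res E hle (e k))))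
  obtain ⟨s0, hs0⟩ := exists_hom_frame (G := I) he (le_refl _) a
  have hs0' : ∀ (y : X) (h : y ∈ inter U ![(⟨0⟩ : ULift.{u} (Fin 2)), ⟨1⟩]) v,
      RefHull.stalkMapₗ j y ((c ![(⟨0⟩ : ULift.{u} (Fin 2)), ⟨1⟩]).1 ⟨y, h⟩ v) = - s0.1 ⟨y, hle h⟩ v := by
    intro y h v
    refine LinearMap.congr_fun (stalkHom_ext_frame he (hle h)
      (f := (RefHull.stalkMapₗ j y).comp ((c ![(⟨0⟩ : ULift.{u} (Fin 2)), ⟨1⟩]).1 ⟨y, h⟩))
      (f' := - s0.1 ⟨y, hle h⟩) fun k => ?_) v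
    rw [LinearMap.comp_apply, LinearMap.neg_apply, hs0 ⟨y, hle h⟩ k]
    show RefHull.stalkMapₗ j y ((c ![(⟨0⟩ : ULift.{u} (Fin 2)), ⟨1⟩]).1 ⟨y, h⟩ (germM E (U ⟨0⟩) y (hle h) (e k))) =
      - germM I (U ⟨0⟩) y (hle h) (a k)
    refine Eq.trans ?_ (congrArg Neg.neg ((congrArg (I.presheaf.germ _ y h) (ha k)).symm.trans
      (I.presheaf.germ_res_apply (homOfLE hle) y h (a k))))
    refine Eq.trans ?_ (congrArg Neg.neg (map_neg (I.presheaf.germ _ y h).hom _)).symm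
    rw [neg_neg]
    refine Eq.trans ?_ (RefHull.stalkMapₗ_germ j y h _)
    refine congrArg (RefHull.stalkMapₗ j y) ?_
    refine Eq.trans ?_ (HomShEval.QCoh.germ_app _ _ _ _ _ y h).symm
    exact congrArg _ (E.presheaf.germ_res_apply (homOfLE hle) y h (e k)).symm
  let s : ∀ i, Γ(RefHull.homSh E I, U i) := fun i => if h : i = ⟨0⟩ then h ▸ s0 else 0
  have hs_0 : s ⟨0⟩ = s0 := dif_pos rfl
  have hs_1 : s ⟨1⟩ = 0 := dif_neg fun h => absurd (congrArg ULift.down h) (by decide)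
  refine ⟨s, fun x y v => ?_⟩
  obtain ⟨x0, x1, rfl⟩ : ∃ a b, x = ![a, b] := ⟨x 0, x 1, funext fun l => by fin_cases l <;> rfl⟩
  obtain ⟨a'⟩ := x0
  obtain ⟨b'⟩ := x1
  show RefHull.stalkMapₗ j y.1 ((c ![⟨a'⟩, ⟨b'⟩]).1 y v) =
    (s ⟨b'⟩).1 ⟨y.1, inter_le U _ 1 y.2⟩ v - (s ⟨a'⟩).1 ⟨y.1, inter_le U _ 0 y.2⟩ v
  match a', b', y, v with
  | 0, 0, y, v => rw [hdiag _ y.1 y.2 v, map_zero, sub_self]
  | 1, 1, y, v => rw [hdiag _ y.1 y.2 v, map_zero, sub_self]
  | 0, 1, y, v =>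
    refine (hs0' y.1 y.2 v).trans ?_
    rw [hs_1, hs_0]
    exact (zero_sub _).symm
  | 1, 0, y, v =>
    have hy01 : y.1 ∈ inter U ![(⟨0⟩ : ULift.{u} (Fin 2)), ⟨1⟩] := mem_inter.mpr fun l => by
      fin_cases l
      · exact inter_le U ![(⟨1⟩ : ULift.{u} (Fin 2)), ⟨0⟩] 1 y.2
      · exact inter_le U ![(⟨1⟩ : ULift.{u} (Fin 2)), ⟨0⟩] 0 y.2
    have hy00 : y.1 ∈ inter U ![(⟨0⟩ : ULift.{u} (Fin 2)), ⟨0⟩] := mem_inter.mpr fun l => by
      fin_cases l <;> exact inter_le U ![(⟨1⟩ : ULift.{u} (Fin 2)), ⟨0⟩] 1 y.2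
    have h1 := hco ⟨0⟩ ⟨1⟩ ⟨0⟩ y.1 y.2 hy00 hy01 v
    rw [hdiag _ y.1 hy00 v, sub_zero, add_eq_zero_iff_eq_neg] at h1
    rw [h1, map_neg, hs0' y.1 hy01 v, neg_neg, hs_1, hs_0]
    exact (sub_zero _).symm

/-- `Ext¹(E, E)` of a vector bundle free on two affines covering `X`. -/
theorem nonempty_ext_equiv_cechH [HasExt.{u} X.Modules] (U : ULift.{u} (Fin 2) → X.Opens)
    (hU : ∀ i, IsAffineOpen (U i)) (hcov : ⨆ i, U i = ⊤) (n : ℕ)
    (hfree : ∀ i, Nonempty (E.restrict (U i).ι ≅ FlatMod.freeMod (↑(U i)) n)) :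
    Nonempty (Ext E E 1 ≃+ ↑(CohB1.cechH U (RefHull.homSh E E) 1)) := by
  haveI : E.IsQuasicoherent := PerfTri.Betti.isQuasicoherent_of_isFinLocFree fun x => by
    obtain ⟨i, hi⟩ := Opens.mem_iSup.mp (show x ∈ ⨆ i, U i by rw [hcov]; trivial)
    exact ⟨U i, n, hi, hfree i⟩
  choose e he using fun i => exists_isFrame_of_iso (hfree i).some
  let S := ShortComplex.mk (Injective.ι E) (cokernel.π (Injective.ι E)) (cokernel.condition _)
  have hS : S.ShortExact :=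
    { exact := ShortComplex.exact_of_g_is_cokernel _ (cokernelIsCokernel (Injective.ι E))
      mono_f := inferInstanceAs (Mono (Injective.ι E))
      epi_g := inferInstanceAs (Epi (cokernel.π (Injective.ι E))) }
  haveI : Injective S.X₂ := inferInstanceAs (Injective (Injective.under E))
  obtain ⟨θ, hθker, hθ⟩ := exists_theta hS e he hU hcov
  have hθsurj : Function.Surjective θ := by
    intro z
    obtain ⟨⟨c, hc⟩, rfl⟩ := (exists_cls (RefHull.homSh E E).presheaf U).choose_spec.1 z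
    obtain ⟨s, hs⟩ := exists_lifts_of_cocycle (Injective.ι E) U (e ⟨0⟩) (he ⟨0⟩) c hc
    obtain ⟨g, hg⟩ := exists_g_of_diff (cokernel.condition (Injective.ι E)) hcov s c hs
    obtain ⟨h, h'⟩ := hθ g s hg c hs _ rfl
    exact ⟨g, h'⟩
  let δ : (E ⟶ S.X₃) →+ Ext E E 1 := AddMonoidHom.mk' (fun g => (Ext.mk₀ g).comp hS.extClass (zero_add 1))
    fun a b => by rw [Ext.mk₀_add, Ext.add_comp]
  have hδsurj : Function.Surjective δ := fun x => by
    obtain ⟨y, hy⟩ := Ext.covariant_sequence_exact₁ E hS x (Ext.eq_zero_of_injective _) (zero_add 1)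
    obtain ⟨g, rfl⟩ := (Ext.mk₀_bijective E S.X₃).2 y
    exact ⟨g, hy⟩
  have hker : δ.ker = θ.ker := by
    ext g
    rw [AddMonoidHom.mem_ker, AddMonoidHom.mem_ker, hθker]
    show (Ext.mk₀ g).comp hS.extClass (zero_add 1) = 0 ↔ _
    constructor
    · intro h
      obtain ⟨y, hy⟩ := Ext.covariant_sequence_exact₃ E hS (Ext.mk₀ g) (zero_add 1) h
      obtain ⟨G, rfl⟩ := (Ext.mk₀_bijective E S.X₂).2 y
      rw [Ext.mk₀_comp_mk₀] at hy
      exact ⟨G, (Ext.mk₀_bijective E S.X₃).1 hy⟩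
    · rintro ⟨G, rfl⟩
      rw [← Ext.mk₀_comp_mk₀, Ext.comp_assoc_of_second_deg_zero, hS.comp_extClass, Ext.comp_zero]
  exact ⟨(QuotientAddGroup.quotientKerEquivOfSurjective δ hδsurj).symm.trans
    ((QuotientAddGroup.quotientAddEquivOfEq hker).trans (QuotientAddGroup.quotientKerEquivOfSurjective θ hθsurj))⟩

end Groth.Agent.DefoShLib
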