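import Mathlib.Algebra.Homology.DerivedCategory.Ext.ExactSequences
import Mathlib.Algebra.Homology.DerivedCategory.Ext.EnoughInjectives
import Mathlib.CategoryTheory.Abelian.Basic

/-!
# Classes in `Ext¹` and extensions
-/

set_option autoImplicit false

universe w v u

open CategoryTheory CategoryTheory.Limits CategoryTheory.Abelian

namespace Groth.Agent.DefoShLib

variable {C : Type u} [Category.{v} C] [Abelian C] [HasExt.{w} C] {A B : C}

/-- Extensions with the same class are isomorphic compatibly with both ends. -/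
theorem exists_hom_of_extClass_eq {M M' : C} {i : B ⟶ M} {p : M ⟶ A} {i' : B ⟶ M'} {p' : M' ⟶ A}
    {h0 : i ≫ p = 0} {h0' : i' ≫ p' = 0} (hS : (ShortComplex.mk i p h0).ShortExact)
    (hS' : (ShortComplex.mk i' p' h0').ShortExact) (h : hS.extClass = hS'.extClass) :
    ∃ φ : M ⟶ M', i ≫ φ = i' ∧ φ ≫ p' = p := by
  have h1 : (Ext.mk₀ p).comp hS'.extClass (zero_add 1) = 0 := h ▸ hS.comp_extClass
  obtain ⟨y, hy⟩ := Ext.covariant_sequence_exact₃ M hS' (Ext.mk₀ p) (zero_add 1) h1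
  obtain ⟨φ, rfl⟩ := Ext.mk₀_bijective M M' |>.2 y
  have hφ : φ ≫ p' = p := by
    rw [Ext.mk₀_comp_mk₀] at hy
    exact (Ext.mk₀_bijective M A).1 hy
  haveI : Mono (ShortComplex.mk i' p' h0').f := hS'.mono_f
  haveI : Mono i' := hS'.mono_f
  have hc0 : (i ≫ φ) ≫ p' = 0 := by rw [Category.assoc, hφ, h0]
  obtain ⟨c, hc⟩ : ∃ c : B ⟶ B, c ≫ i' = i ≫ φ := ⟨hS'.exact.lift _ hc0, hS'.exact.lift_f _ hc0⟩
  let f : ShortComplex.mk i p h0 ⟶ ShortComplex.mk i' p' h0' :=
    { τ₁ := c, τ₂ := φ, τ₃ := 𝟙 A, comm₁₂ := hc, comm₂₃ := hφ.trans (Category.comp_id p).symm }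
  have h2 := ShortComplex.ShortExact.extClass_naturality hS hS' f
  change hS.extClass.comp (Ext.mk₀ c) (add_zero 1) = (Ext.mk₀ (𝟙 A)).comp hS'.extClass (zero_add 1) at h2
  rw [Ext.mk₀_id_comp, ← h] at h2
  have h3 : hS.extClass.comp (Ext.mk₀ (c - 𝟙 B)) (add_zero 1) = 0 := by
    rw [sub_eq_add_neg, Ext.mk₀_add, Ext.comp_add, h2, Ext.mk₀_neg, Ext.comp_neg, Ext.comp_mk₀_id, add_neg_cancel]
  obtain ⟨z, hz⟩ := Ext.contravariant_sequence_exact₁ hS B (Ext.mk₀ (c - 𝟙 B)) (add_zero 1) h3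
  obtain ⟨t, rfl⟩ := Ext.mk₀_bijective M B |>.2 z
  rw [Ext.mk₀_comp_mk₀] at hz
  have ht : i ≫ t = c - 𝟙 B := (Ext.mk₀_bijective B B).1 hz
  refine ⟨φ - t ≫ i', ?_, ?_⟩
  · rw [Preadditive.comp_sub, reassoc_of% ht, Preadditive.sub_comp, hc, Category.id_comp, sub_sub_cancel]
  · rw [Preadditive.sub_comp, hφ, Category.assoc, h0', comp_zero, sub_zero]

/-- Every class in `Ext¹` is the class of an extension. -/
theorem exists_extension [EnoughInjectives C] (x : Ext A B 1) :
    ∃ (M : C) (i : B ⟶ M) (p : M ⟶ A) (h0 : i ≫ p = 0) (hS : (ShortComplex.mk i p h0).ShortExact),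
      hS.extClass = x := by
  let j := Injective.ι B
  let S := ShortComplex.mk j (cokernel.π j) (cokernel.condition j)
  have hS : S.ShortExact :=
    { exact := ShortComplex.exact_of_g_is_cokernel _ (cokernelIsCokernel j)
      mono_f := inferInstanceAs (Mono j)
      epi_g := inferInstanceAs (Epi (cokernel.π j)) }
  haveI : Injective S.X₂ := inferInstanceAs (Injective (Injective.under B))
  obtain ⟨y, hy⟩ := Ext.covariant_sequence_exact₁ A hS x (Ext.eq_zero_of_injective _) (zero_add 1)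
  obtain ⟨g, rfl⟩ := (Ext.mk₀_bijective A S.X₃).2 y
  haveI : Epi S.g := hS.epi_g
  haveI : Mono S.f := hS.mono_f
  let i : B ⟶ pullback S.g g := pullback.lift S.f 0 (by rw [S.zero, zero_comp])
  have hi0 : i ≫ pullback.snd S.g g = 0 := pullback.lift_snd _ _ _
  have hi1 : i ≫ pullback.fst S.g g = j := pullback.lift_fst _ _ _
  haveI : Mono i := mono_of_mono_fac hi1
  let T := ShortComplex.mk i (pullback.snd S.g g) hi0
  have hT : T.ShortExact :=
    { mono_f := inferInstanceAs (Mono i)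
      epi_g := inferInstanceAs (Epi (pullback.snd S.g g))
      exact := ShortComplex.exact_of_f_is_kernel _ (KernelFork.IsLimit.ofι' i hi0 (fun {W} k hk => by
        have hk0 : (k ≫ pullback.fst S.g g) ≫ S.g = 0 := by
          rw [Category.assoc, pullback.condition, ← Category.assoc, hk, zero_comp]
        refine ⟨hS.exact.lift _ hk0, pullback.hom_ext ?_ ?_⟩
        · rw [Category.assoc, hi1]
          exact hS.exact.lift_f _ hk0
        · rw [Category.assoc, hi0, comp_zero, hk])) }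
  refine ⟨_, i, _, hi0, hT, ?_⟩
  let f : T ⟶ S :=
    { τ₁ := 𝟙 B, τ₂ := pullback.fst S.g g, τ₃ := g
      comm₁₂ := (Category.id_comp _).trans hi1.symm
      comm₂₃ := pullback.condition }
  have h2 := ShortComplex.ShortExact.extClass_naturality hT hS f
  change hT.extClass.comp (Ext.mk₀ (𝟙 B)) (add_zero 1) = (Ext.mk₀ g).comp hS.extClass (zero_add 1) at h2
  rw [Ext.comp_mk₀_id] at h2
  exact h2.trans hy

end Groth.Agent.DefoShLib
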