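import Groth.Agent.DefoShLib.Basic
import Groth.Agent.DefoShLib.ExtClasses
import Groth.Agent.ModShf.GrothAb

/-!
# First-order deformations and `Ext¹(E, E)`
-/

set_option autoImplicit false
set_option backward.isDefEq.respectTransparency false
set_option backward.isDefEq.respectTransparency.types false
set_option linter.style.haveILetI false
set_option maxHeartbeats 800000

universe u

open CategoryTheory CategoryTheory.Limits AlgebraicGeometry TopologicalSpace Opposite TensorProduct
open ArtFun ArtFun.Art CategoryTheory.Abelian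
open Groth.Agent.PullStalk.Sky Groth.Agent.PullStalk.Exact

noncomputable section

namespace Groth.Agent.DefoShLib

section Algebra

variable {k : Type u} [Field k] {L : Type u} [AddCommGroup L] [Module (DualNumber k) L]

/-- A module over the dual numbers in which `ε v = 0` only for multiples of `ε` is flat. -/
theorem flat_of_eps (h : ∀ v : L, (DualNumber.eps : DualNumber k) • v = 0 →
    ∃ w : L, (DualNumber.eps : DualNumber k) • w = v) : Module.Flat (DualNumber k) L := by
  letI : Module k L := Module.compHom L (algebraMap k (DualNumber k))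
  haveI : IsScalarTower k (DualNumber k) L :=
    ⟨fun c z l => by
      show (c • z) • l = (algebraMap k (DualNumber k) c) • (z • l)
      rw [Algebra.smul_def, mul_smul]⟩
  let ε : DualNumber k := DualNumber.eps
  let R : Submodule k L := (LinearMap.range ((ε • LinearMap.id : L →ₗ[DualNumber k] L))).restrictScalars k
  obtain ⟨s, hs⟩ := LinearMap.exists_rightInverse_of_surjective R.mkQ R.range_mkQ
  let f := LinearMap.liftBaseChange (DualNumber k) s
  have hmk : ∀ a, R.mkQ (s a) = a := fun a => LinearMap.congr_fun hs a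
  have hεε : ∀ y : L, ε • ε • y = 0 := fun y => by
    rw [smul_smul, DualNumber.eps_mul_eps, zero_smul]
  have key : ∀ l, ∃ a y, l = s a + ε • y := fun l => by
    have h1 : R.mkQ (l - s (R.mkQ l)) = 0 := by rw [map_sub, hmk, sub_self]
    rw [Submodule.mkQ_apply, Submodule.Quotient.mk_eq_zero] at h1
    obtain ⟨y, hy⟩ := h1
    refine ⟨R.mkQ l, y, ?_⟩
    have hy' : ε • y = l - s (R.mkQ l) := hy
    rw [hy', add_sub_cancel]
  have hsurj : Function.Surjective f := by
    intro l
    obtain ⟨a, y, rfl⟩ := key l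
    obtain ⟨b, z, rfl⟩ := key y
    refine ⟨(1 : DualNumber k) ⊗ₜ a + ε ⊗ₜ b, ?_⟩
    rw [map_add, LinearMap.liftBaseChange_tmul, LinearMap.liftBaseChange_tmul, one_smul, smul_add, hεε, add_zero]
  have hdec : ∀ t : DualNumber k ⊗[k] (L ⧸ R), ∃ a b, t = (1 : DualNumber k) ⊗ₜ a + ε ⊗ₜ b := by
    intro t
    induction t using TensorProduct.induction_on with
    | zero => exact ⟨0, 0, by simp⟩
    | tmul z v =>
      refine ⟨TrivSqZeroExt.fst z • v, TrivSqZeroExt.snd z • v, ?_⟩
      rw [TensorProduct.tmul_smul, TensorProduct.tmul_smul, TensorProduct.smul_tmul', TensorProduct.smul_tmul',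
        ← TensorProduct.add_tmul]
      congr 1
      ext <;> simp [ε]
    | add t t' ht ht' =>
      obtain ⟨a, b, rfl⟩ := ht
      obtain ⟨a', b', rfl⟩ := ht'
      refine ⟨a + a', b + b', ?_⟩
      rw [TensorProduct.tmul_add, TensorProduct.tmul_add]
      abel
  have hinj : Function.Injective f := by
    rw [injective_iff_map_eq_zero]
    intro t ht
    obtain ⟨a, b, rfl⟩ := hdec t
    rw [map_add, LinearMap.liftBaseChange_tmul, LinearMap.liftBaseChange_tmul, one_smul] at ht
    have ha : a = 0 := by
      rw [← hmk a, Submodule.mkQ_apply, Submodule.Quotient.mk_eq_zero]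
      refine ⟨-(s b), ?_⟩
      show ε • (-(s b)) = s a
      rw [smul_neg]
      exact (eq_neg_of_add_eq_zero_left ht).symm
    rw [ha, map_zero, zero_add] at ht
    have hb : b = 0 := by
      obtain ⟨w, hw⟩ := h _ ht
      rw [← hmk b, Submodule.mkQ_apply, Submodule.Quotient.mk_eq_zero]
      exact ⟨w, hw⟩
    simp [ha, hb]
  exact Module.Flat.of_linearEquiv (LinearEquiv.ofBijective f ⟨hinj, hsurj⟩).symm

end Algebra

variable {k : Type u} [Field k] {X : Scheme.{u}} [X.Over (Spec (CommRingCat.of k))] {E : X.Modules}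

section OfExtension

variable {M : X.Modules} {i : E ⟶ M} {p : M ⟶ E} {h0 : i ≫ p = 0} (hS : (ShortComplex.mk i p h0).ShortExact)

variable (k) in
/-- The action of the dual numbers on an extension of `E` by `E`. -/
def actOfExtension (i : E ⟶ M) (p : M ⟶ E) (h0 : i ≫ p = 0) : DualNumber k →ₐ[k] End M :=
  DualNumber.lift ⟨(Algebra.ofId k (End M), p ≫ i),
    (by
      show (p ≫ i) ≫ p ≫ i = 0
      rw [Category.assoc, reassoc_of% h0, zero_comp, comp_zero]),
    fun a => (Algebra.commutes a (show End M from p ≫ i)).symm⟩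

theorem actOfExtension_apply (i : E ⟶ M) (p : M ⟶ E) (h0 : i ≫ p = 0) (z : DualNumber k) :
    (actOfExtension k i p h0 z : M ⟶ M) = TrivSqZeroExt.fst z • 𝟙 M + TrivSqZeroExt.snd z • (p ≫ i) := by
  change (algebraMap k (End M) (TrivSqZeroExt.fst z) + algebraMap k (End M) (TrivSqZeroExt.snd z) * (show End M from p ≫ i) : End M) = _
  rw [Algebra.algebraMap_eq_smul_one, Algebra.algebraMap_eq_smul_one, smul_mul_assoc, one_mul]
  rfl

theorem actOfExtension_eps (i : E ⟶ M) (p : M ⟶ E) (h0 : i ≫ p = 0) :
    (actOfExtension k i p h0 DualNumber.eps : M ⟶ M) = p ≫ i := by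
  rw [actOfExtension_apply]
  simp

include hS in
/-- The deformation given by an extension. -/
theorem exists_defo :
    ∃ (D : DefoSh.Defo E (ArtFun.Art.dual k k)) (ι : E ⟶ D.sheaf) (hι : D.π ≫ ι = eps D),
      (shortExact D hι).extClass (C := X.Modules) = hS.extClass := by
  let A : DualNumber k →ₐ[k] End M := actOfExtension k i p h0
  have hsurj : ∀ x : X, Function.Surjective (RefHull.stalkMapₗ p x) := fun x => (stalk_exact hS x).2.2
  have hinj : ∀ x : X, Function.Injective (RefHull.stalkMapₗ i x) := fun x => (stalk_exact hS x).1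
  have hker : ∀ (x : X) (v : M.presheaf.stalk x), RefHull.stalkMapₗ p x v = 0 →
      ∃ w, RefHull.stalkMapₗ (A DualNumber.eps : M ⟶ M) x w = v := by
    intro x v hv
    obtain ⟨e, he⟩ := ((stalk_exact hS x).2.1 v).mp hv
    obtain ⟨w, hw⟩ := hsurj x e
    refine ⟨w, ?_⟩
    rw [show (A DualNumber.eps : M ⟶ M) = p ≫ i from actOfExtension_eps i p h0, DefoSh.stalkMapₗ_comp_apply, hw]
    exact he
  let D : DefoSh.Defo E (ArtFun.Art.dual k k) :=
    { sheaf := M
      act := A
      π := p
      act_π := fun a ha => by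
        change (show DualNumber k → (M ⟶ M) from fun b => A b) a ≫ p = 0
        dsimp only
        rw [show A = actOfExtension k i p h0 from rfl, actOfExtension_apply, Preadditive.add_comp,
          Linear.smul_comp, Linear.smul_comp, Category.assoc, h0, comp_zero, smul_zero, add_zero,
          show TrivSqZeroExt.fst (show DualNumber k from a) = 0 from ha, zero_smul]
      surj := hsurj
      ker_le := fun x v hv => by
        letI : Module (ArtFun.Art.dual k k) ↑(M.presheaf.stalk x) :=
          DefoSh.stalkModule (A := ArtFun.Art.dual k k) M A.toRingHom x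
        obtain ⟨w, rfl⟩ := hker x v hv
        refine Submodule.smul_mem_smul (r := (show ArtFun.Art.dual k k from (DualNumber.eps : DualNumber k)))
          (n := w) ?_ Submodule.mem_top
        rw [ArtFun.Art.mem_maximalIdeal_iff]
        rfl
      flat := fun x => by
        letI : Module (DualNumber k) ↑(M.presheaf.stalk x) :=
          DefoSh.stalkModule (A := DualNumber k) M A.toRingHom x
        refine flat_of_eps (k := k) (L := ↑(M.presheaf.stalk x)) fun v hv => ?_
        refine hker x v ?_
        have hv' : RefHull.stalkMapₗ (p ≫ i) x v = 0 :=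
          (congrArg (fun ψ : M ⟶ M => RefHull.stalkMapₗ ψ x v) (actOfExtension_eps i p h0).symm).trans hv
        rw [DefoSh.stalkMapₗ_comp_apply] at hv'
        exact hinj x (hv'.trans (map_zero _).symm) }
  have hι : D.π ≫ i = eps D := (actOfExtension_eps i p h0).symm
  exact ⟨D, i, hι, rfl⟩

end OfExtension

variable [HasExt.{u} X.Modules]

/-- The class of a deformation. -/
def defoClass (D : DefoSh.Defo E (ArtFun.Art.dual k k)) : Ext E E 1 :=
  (shortExact D (Classical.choose_spec (exists_ι D))).extClass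

theorem defoClass_eq (D : DefoSh.Defo E (ArtFun.Art.dual k k)) {ι : E ⟶ D.sheaf} (hι : D.π ≫ ι = eps D) :
    defoClass D = (shortExact D hι).extClass := by
  haveI := epi_π D
  have : Classical.choose (exists_ι D) = ι :=
    (cancel_epi D.π).mp ((Classical.choose_spec (exists_ι D)).trans hι.symm)
  subst this
  rfl

theorem defoClass_congr {D D' : DefoSh.Defo E (ArtFun.Art.dual k k)} (e : DefoSh.Defo.Iso D D') :
    defoClass D = defoClass D' := by
  obtain ⟨ι, hι⟩ := exists_ι D
  obtain ⟨ι', hι'⟩ := exists_ι D'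
  rw [defoClass_eq D hι, defoClass_eq D' hι']
  haveI := epi_π D
  have hcomm : ι ≫ e.iso.hom = ι' := by
    rw [← cancel_epi D.π, ← Category.assoc, hι]
    refine (e.act_hom (DualNumber.eps : DualNumber k)).trans ?_
    change e.iso.hom ≫ eps D' = _
    rw [← hι', ← Category.assoc, e.hom_π]
  let f : ShortComplex.mk ι D.π (ι_π D hι) ⟶ ShortComplex.mk ι' D'.π (ι_π D' hι') :=
    { τ₁ := 𝟙 E, τ₂ := e.iso.hom, τ₃ := 𝟙 E
      comm₁₂ := (Category.id_comp _).trans hcomm.symm
      comm₂₃ := e.hom_π.trans (Category.comp_id _).symm }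
  have h := ShortComplex.ShortExact.extClass_naturality (shortExact D hι) (shortExact D' hι') f
  change (shortExact D hι).extClass.comp (Ext.mk₀ (𝟙 E)) (add_zero 1) =
    (Ext.mk₀ (𝟙 E)).comp (shortExact D' hι').extClass (zero_add 1) at h
  rwa [Ext.comp_mk₀_id, Ext.mk₀_id_comp] at h

theorem nonempty_iso_of_defoClass_eq {D D' : DefoSh.Defo E (ArtFun.Art.dual k k)}
    (h : defoClass D = defoClass D') : Nonempty (DefoSh.Defo.Iso D D') := by
  obtain ⟨ι, hι⟩ := exists_ι D
  obtain ⟨ι', hι'⟩ := exists_ι D'
  rw [defoClass_eq D hι, defoClass_eq D' hι'] at h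
  obtain ⟨φ, h1, h2⟩ := exists_hom_of_extClass_eq (shortExact D hι) (shortExact D' hι') h
  have hact : ∀ a : ArtFun.Art.dual k k, D.act a ≫ φ = φ ≫ D'.act a := by
    intro a
    change (show DualNumber k → (D.sheaf ⟶ D.sheaf) from fun b => D.act b) a ≫ φ =
      φ ≫ (show DualNumber k → (D'.sheaf ⟶ D'.sheaf) from fun b => D'.act b) a
    dsimp only
    rw [act_eq D a, act_eq D' a, ← hι, ← hι']
    simp only [Preadditive.add_comp, Preadditive.comp_add, Linear.smul_comp, Linear.comp_smul, Category.id_comp,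
      Category.comp_id, Category.assoc, h1]
    rw [reassoc_of% h2]
  haveI := isIso_of_hom D D' φ hact h2
  exact ⟨{ iso := asIso φ, act_hom := hact, hom_π := h2 }⟩

theorem trivDual_class : defoClass (DefoSh.Defo.trivDual k E) = 0 := by
  have hι : (DefoSh.Defo.trivDual k E).π ≫ (biprod.inr : E ⟶ E ⊞ E) = eps (DefoSh.Defo.trivDual k E) := by
    show (biprod.fst : E ⊞ E ⟶ E) ≫ biprod.inr = (DefoSh.dualAct k E DualNumber.eps : E ⊞ E ⟶ E ⊞ E)
    rw [DefoSh.dualAct_hom]
    simp
  rw [defoClass_eq _ hι]
  have h := (shortExact _ hι).comp_extClass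
  have h2 := congrArg (fun z => (Ext.mk₀ (biprod.inl : E ⟶ E ⊞ E)).comp z (zero_add 1)) h
  simp only [Ext.comp_zero] at h2
  rw [Ext.mk₀_comp_mk₀_assoc] at h2
  have h3 : (biprod.inl : E ⟶ E ⊞ E) ≫ (DefoSh.Defo.trivDual k E).π = 𝟙 E := biprod.inl_fst
  change (Ext.mk₀ ((biprod.inl : E ⟶ E ⊞ E) ≫ (DefoSh.Defo.trivDual k E).π)).comp _ _ = _ at h2
  rw [h3, Ext.mk₀_id_comp] at h2
  exact h2

theorem firstOrder_equiv_ext :
    ∃ e : DefoSh.FirstOrder k E ≃ Ext E E 1,
      e (DefoSh.Defo.trivDual k E).cl = 0 ∧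
      ∀ (D : DefoSh.Defo E (ArtFun.Art.dual k k)) (i : E ⟶ D.sheaf)
        (_ : D.π ≫ i = D.act (DualNumber.eps : DualNumber k))
        (h0 : i ≫ D.π = 0) (hS : (ShortComplex.mk i D.π h0).ShortExact),
        e D.cl = hS.extClass := by
  let Φ : DefoSh.FirstOrder k E → Ext E E 1 := Quotient.lift defoClass fun D D' ⟨e⟩ => defoClass_congr e
  have hbij : Function.Bijective Φ := by
    constructor
    · intro a b
      induction a using Quotient.inductionOn
      induction b using Quotient.inductionOn
      intro h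
      exact Quotient.sound (nonempty_iso_of_defoClass_eq h)
    · intro x
      obtain ⟨M, i, p, h0, hS, rfl⟩ := exists_extension x
      obtain ⟨D, ι, hι, h⟩ := exists_defo (k := k) hS
      exact ⟨D.cl, (defoClass_eq D hι).trans h⟩
  exact ⟨Equiv.ofBijective Φ hbij, trivDual_class, fun D i hi h0 hS => defoClass_eq D hi⟩

end Groth.Agent.DefoShLib
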