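import Groth.Agent.DefoShLib.Basic
import Groth.Agent.KFlat.FlatPull

/-!
# First-order deformations of vector bundles are locally trivial
-/

set_option autoImplicit false
set_option backward.isDefEq.respectTransparency false
set_option backward.isDefEq.respectTransparency.types false
set_option linter.style.haveILetI false
set_option maxHeartbeats 800000

universe u

open CategoryTheory CategoryTheory.Limits AlgebraicGeometry TopologicalSpace Opposite
open ArtFun ArtFun.Art
open Groth.Agent.PullStalk.Sky Groth.Agent.PullStalk.Exact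

noncomputable section

namespace Groth.Agent.DefoShLib

variable {X : Scheme.{u}} {E N : X.Modules} {U : X.Opens} {n : ℕ} {e : Fin n → Γ(E, U)}

/-- The map sending a frame to given sections, on the sections over a smaller open. -/
def frameMap (he : LFFrame.IsFrame E U e) (v : Fin n → Γ(N, U)) (V : X.Opens) (h : V ≤ U) :
    Γ(E, V) →+ Γ(N, V) where
  toFun m := LFFrame.comb N v h ((Equiv.ofBijective _ (he V h)).symm m)
  map_zero' := by
    have : (Equiv.ofBijective _ (he V h)).symm 0 = 0 := by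
      rw [Equiv.symm_apply_eq]
      simp [LFFrame.comb]
    rw [this]
    simp [LFFrame.comb]
  map_add' a b := by
    have : (Equiv.ofBijective _ (he V h)).symm (a + b) =
        (Equiv.ofBijective _ (he V h)).symm a + (Equiv.ofBijective _ (he V h)).symm b := by
      rw [Equiv.symm_apply_eq]
      have h1 := (Equiv.ofBijective _ (he V h)).apply_symm_apply a
      have h2 := (Equiv.ofBijective _ (he V h)).apply_symm_apply b
      show a + b = LFFrame.comb E e h _
      simp only [LFFrame.comb, Pi.add_apply, add_smul, Finset.sum_add_distrib]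
      exact congrArg₂ (· + ·) h1.symm h2.symm
    rw [this]
    simp [LFFrame.comb, add_smul, Finset.sum_add_distrib]

theorem frameMap_comb (he : LFFrame.IsFrame E U e) (v : Fin n → Γ(N, U)) (V : X.Opens) (h : V ≤ U)
    (a : Fin n → Γ(X, V)) : frameMap he v V h (LFFrame.comb E e h a) = LFFrame.comb N v h a := by
  show LFFrame.comb N v h ((Equiv.ofBijective _ (he V h)).symm ((Equiv.ofBijective _ (he V h)) a)) = _
  rw [Equiv.symm_apply_apply]

theorem frameMap_smul (he : LFFrame.IsFrame E U e) (v : Fin n → Γ(N, U)) (V : X.Opens) (h : V ≤ U)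
    (r : Γ(X, V)) (m : Γ(E, V)) : frameMap he v V h (r • m) = r • frameMap he v V h m := by
  obtain ⟨a, rfl⟩ := (he V h).2 m
  have e1 : ∀ (M : X.Modules) (w : Fin n → Γ(M, U)), r • LFFrame.comb M w h a = LFFrame.comb M w h (r • a) :=
    fun M w => by simp [LFFrame.comb, Finset.smul_sum, smul_smul]
  rw [e1, frameMap_comb, frameMap_comb, e1]

theorem frameMap_res (he : LFFrame.IsFrame E U e) (v : Fin n → Γ(N, U)) {V W : X.Opens} (h : V ≤ U) (h' : W ≤ V)
    (m : Γ(E, V)) : frameMap he v W (h'.trans h) (E.presheaf.map (homOfLE h').op m) =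
      N.presheaf.map (homOfLE h').op (frameMap he v V h m) := by
  obtain ⟨a, rfl⟩ := (he V h).2 m
  rw [LFFrame.res_comb, frameMap_comb, frameMap_comb, LFFrame.res_comb]

/-- The morphism on `U` sending a frame to given sections. -/
def frameHom (he : LFFrame.IsFrame E U e) (v : Fin n → Γ(N, U)) : E.restrict U.ι ⟶ N.restrict U.ι :=
  ⟨PresheafOfModules.homMk
    { app := fun W => AddCommGrpCat.ofHom (frameMap he v (U.ι ''ᵁ W.unop) (U.ι_image_le W.unop))
      naturality := fun W W' i => by
        ext m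
        exact frameMap_res he v (U.ι_image_le W.unop) (U.ι.image_mono (leOfHom i.unop)) m }
    (fun W r m => frameMap_smul he v (U.ι ''ᵁ W.unop) (U.ι_image_le W.unop) ((U.ι.appIso W.unop).inv r) m)⟩

theorem frameHom_app (he : LFFrame.IsFrame E U e) (v : Fin n → Γ(N, U)) (W : (U : Scheme.{u}).Opens)
    (m : Γ(E, U.ι ''ᵁ W)) :
    (frameHom he v).app W m = frameMap he v (U.ι ''ᵁ W) (U.ι_image_le W) m := rfl

variable {k : Type u} [Field k] [X.Over (Spec (CommRingCat.of k))]

theorem comp_frame_section (D : DefoSh.Defo E (ArtFun.Art.dual k k)) (he : LFFrame.IsFrame E U e)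
    (v : Fin n → Γ(D.sheaf, U)) (hv : ∀ i, D.π.app U (v i) = e i) :
    frameHom he v ≫ (Scheme.Modules.restrictFunctor U.ι).map D.π = 𝟙 _ := by
  refine Scheme.Modules.hom_ext _ _ fun W => ?_
  ext m
  show D.π.app (U.ι ''ᵁ W) (frameMap he v _ (U.ι_image_le W) m) = m
  obtain ⟨a, rfl⟩ := (he _ (U.ι_image_le W)).2 m
  rw [frameMap_comb]
  simp only [LFFrame.comb, map_sum, Scheme.Modules.Hom.app_smul, app_res, hv]

theorem smul_natural (c : k) {M : X.Modules} (f : E.restrict U.ι ⟶ M.restrict U.ι) :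
    (Scheme.Modules.restrictFunctor U.ι).map (c • 𝟙 E) ≫ f =
      f ≫ (Scheme.Modules.restrictFunctor U.ι).map (c • 𝟙 M) := by
  refine Scheme.Modules.hom_ext _ _ fun W => ?_
  ext m
  change Γ(E, U.ι ''ᵁ W) at m
  show f.app W ((c • 𝟙 E : E ⟶ E).app (U.ι ''ᵁ W) m) = (c • 𝟙 M : M ⟶ M).app (U.ι ''ᵁ W) (f.app W m)
  rw [KLin.smul_app_apply, KLin.smul_app_apply, Scheme.Modules.Hom.id_app, Scheme.Modules.Hom.id_app]
  have h := Scheme.Modules.Hom.app_smul f ((U.ι.appIso W).hom (X.presheaf.map (homOfLE (le_top : U.ι ''ᵁ W ≤ ⊤)).op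
    (Coh.toGlobal (X ↘ Spec (CommRingCat.of k)) c))) m
  refine Eq.trans ?_ (h.trans ?_)
  · refine congrArg (f.app W) ?_
    refine Eq.trans ?_ (rfl : (U.ι.appIso W).inv ((U.ι.appIso W).hom _) • (show Γ(E, U.ι ''ᵁ W) from m) = _)
    rw [Iso.hom_inv_id_apply]
    rfl
  · refine Eq.trans (rfl : _ = (U.ι.appIso W).inv ((U.ι.appIso W).hom _) • (show Γ(M, U.ι ''ᵁ W) from f.app W m)) ?_
    rw [Iso.hom_inv_id_apply]
    rfl

theorem exists_local_trivialization (hE : FlatMod.IsFinLocFree E) (D : DefoSh.Defo E (ArtFun.Art.dual k k))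
    (x : X) :
    ∃ (U : X.Opens) (f : D.sheaf.restrict U.ι ≅ (DefoSh.Defo.trivDual k E).sheaf.restrict U.ι), x ∈ U ∧
      f.hom ≫ (Scheme.Modules.restrictFunctor U.ι).map (DefoSh.Defo.trivDual k E).π =
        (Scheme.Modules.restrictFunctor U.ι).map D.π ∧
      ∀ a : ArtFun.Art.dual k k, (Scheme.Modules.restrictFunctor U.ι).map (D.act a) ≫ f.hom =
        f.hom ≫ (Scheme.Modules.restrictFunctor U.ι).map ((DefoSh.Defo.trivDual k E).act a) := by
  obtain ⟨ι, hι⟩ := exists_ι D
  obtain ⟨U₀, n, e₀, hxU, he₀⟩ := LFFrame.exists_isFrame_of_isFinLocFree hE x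
  choose W hW v₀ hxW hv using fun i => exists_lift D (e₀ i) x hxU
  let U : X.Opens := ⟨(U₀ : Set X) ∩ ⋂ i, (W i : Set X),
    U₀.2.inter (isOpen_iInter_of_finite fun i => (W i).2)⟩
  have hU : U ≤ U₀ := Set.inter_subset_left
  have hUW : ∀ i, U ≤ W i := fun i => Set.inter_subset_right.trans (Set.iInter_subset _ i)
  have he : LFFrame.IsFrame E U (fun i => E.presheaf.map (homOfLE hU).op (e₀ i)) := by
    intro V hV
    have : LFFrame.comb E (fun i => E.presheaf.map (homOfLE hU).op (e₀ i)) hV =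
        LFFrame.comb E e₀ (hV.trans hU) := by
      funext a
      simp [LFFrame.comb, LFFrame.res_res]
    rw [this]
    exact he₀ V _
  let F := Scheme.Modules.restrictFunctor U.ι
  let σ : F.obj E ⟶ F.obj D.sheaf := frameHom he fun i => D.sheaf.presheaf.map (homOfLE (hUW i)).op (v₀ i)
  have hσ : σ ≫ F.map D.π = 𝟙 _ := comp_frame_section D he _ fun i => by
    rw [app_res, hv, LFFrame.res_res]
  have hadd : ∀ {M N : X.Modules} (f g : M ⟶ N), F.map (f + g) = F.map f + F.map g := fun f g => by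
    refine Scheme.Modules.hom_ext _ _ fun W => ?_
    ext m
    rfl
  have hzero : ∀ {M N : X.Modules}, F.map (0 : M ⟶ N) = 0 := fun {M N} => by
    refine Scheme.Modules.hom_ext _ _ fun W => ?_
    ext m
    rfl
  haveI : F.Additive := ⟨fun {M N f g} => hadd f g⟩
  have hS := (shortExact D hι).map_of_exact F
  haveI : Mono (F.map ι) := hS.mono_f
  haveI : Mono ((ShortComplex.mk ι D.π (ι_π D hι)).map F).f := hS.mono_f
  have hr0 : (𝟙 _ - F.map D.π ≫ σ) ≫ F.map D.π = 0 := by
    rw [Preadditive.sub_comp, Category.id_comp, Category.assoc, hσ, Category.comp_id, sub_self]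
  obtain ⟨r, hr⟩ : ∃ r : F.obj D.sheaf ⟶ F.obj E, r ≫ F.map ι = 𝟙 _ - F.map D.π ≫ σ :=
    ⟨hS.exact.lift _ hr0, hS.exact.lift_f _ hr0⟩
  have hιπ : F.map ι ≫ F.map D.π = 0 := by rw [← F.map_comp, ι_π D hι, hzero]
  have hιr : F.map ι ≫ r = 𝟙 _ := by
    rw [← cancel_mono (F.map ι), Category.assoc, hr, Preadditive.comp_sub, Category.comp_id, ← Category.assoc,
      hιπ, zero_comp, sub_zero, Category.id_comp]
  have hσr : σ ≫ r = 0 := by
    rw [← cancel_mono (F.map ι), Category.assoc, hr, Preadditive.comp_sub, Category.comp_id, ← Category.assoc,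
      hσ, Category.id_comp, sub_self, zero_comp]
  let f : F.obj D.sheaf ≅ F.obj (E ⊞ E) :=
    { hom := F.map D.π ≫ F.map biprod.inl + r ≫ F.map biprod.inr
      inv := F.map biprod.fst ≫ σ + F.map biprod.snd ≫ F.map ι
      hom_inv_id := by
        simp only [Preadditive.add_comp, Preadditive.comp_add, Category.assoc]
        simp only [← F.map_comp_assoc, biprod.inl_fst, biprod.inl_snd, biprod.inr_fst, biprod.inr_snd,
          F.map_id, hzero, Category.id_comp, zero_comp, comp_zero, add_zero, zero_add]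
        simp only [← F.map_comp, Category.assoc, hr, biprod.inl_snd_assoc, biprod.inr_snd_assoc, zero_comp,
          comp_zero, hzero, add_zero]
        abel
      inv_hom_id := by
        simp only [Preadditive.add_comp, Preadditive.comp_add, Category.assoc]
        rw [reassoc_of% hσ, reassoc_of% hσr, reassoc_of% hιπ, reassoc_of% hιr]
        simp only [zero_comp, comp_zero, zero_add, add_zero]
        rw [← F.map_comp, ← F.map_comp, ← hadd, biprod.total, F.map_id] }
  refine ⟨U, f, ⟨hxU, Set.mem_iInter.2 hxW⟩, ?_, fun a => ?_⟩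
  · show (F.map D.π ≫ F.map biprod.inl + r ≫ F.map biprod.inr) ≫ F.map (biprod.fst : E ⊞ E ⟶ E) = _
    rw [Preadditive.add_comp, Category.assoc, Category.assoc, ← F.map_comp, ← F.map_comp, ← F.map_comp,
      biprod.inl_fst, biprod.inr_fst, hzero, comp_zero, add_zero, Category.comp_id]
  · change F.map ((show DualNumber k → (D.sheaf ⟶ D.sheaf) from fun b => D.act b) a) ≫ _ =
      _ ≫ F.map ((DefoSh.dualAct k E) a : E ⊞ E ⟶ E ⊞ E)
    dsimp only
    rw [act_eq D a, DefoSh.dualAct_hom E, hadd, hadd]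
    have key : ∀ {M : X.Modules} (c : k) (g : E.restrict U.ι ⟶ M.restrict U.ι),
        F.map (c • 𝟙 E) ≫ g = g ≫ F.map (c • 𝟙 M) := fun c g => smul_natural c g
    show _ = _
    have hc : ∀ (c : k) {M M' : X.Modules} (g : M ⟶ M'), F.map (c • g) = F.map g ≫ F.map (c • 𝟙 M') :=
      fun c {M M'} g => by rw [← F.map_comp, Linear.comp_smul, Category.comp_id]
    have hl : ∀ (c : k) {M M' : X.Modules} (g : M ⟶ M'), F.map (c • 𝟙 M) ≫ F.map g = F.map g ≫ F.map (c • 𝟙 M') :=
      fun c {M M'} g => by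
        rw [← F.map_comp, ← F.map_comp, Linear.comp_smul, Category.comp_id, Linear.smul_comp, Category.id_comp]
    have hsd : ∀ c : k, f.inv ≫ F.map (c • 𝟙 D.sheaf) = F.map (c • 𝟙 (E ⊞ E)) ≫ f.inv := fun c => by
      show (F.map biprod.fst ≫ σ + F.map biprod.snd ≫ F.map ι) ≫ _ = _ ≫ (_ + _)
      rw [Preadditive.add_comp, Preadditive.comp_add, Category.assoc, Category.assoc, ← key c σ, ← hl c ι,
        ← Category.assoc, ← hl c biprod.fst, ← Category.assoc, ← hl c biprod.snd, Category.assoc, Category.assoc]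
    have heps : f.inv ≫ F.map (eps D) =
        F.map ((biprod.fst : E ⊞ E ⟶ E) ≫ biprod.inr) ≫ f.inv := by
      show (F.map biprod.fst ≫ σ + F.map biprod.snd ≫ F.map ι) ≫ _ = _ ≫ (_ + _)
      rw [← hι, F.map_comp, F.map_comp, Preadditive.add_comp, Preadditive.comp_add]
      simp only [Category.assoc, reassoc_of% hσ, reassoc_of% hιπ, zero_comp, comp_zero, add_zero,
        ← F.map_comp_assoc, biprod.inr_fst, biprod.inr_snd, hzero, zero_add, Category.comp_id]
    rw [hc (TrivSqZeroExt.snd a) (eps D), hc (TrivSqZeroExt.snd a) ((biprod.fst : E ⊞ E ⟶ E) ≫ biprod.inr)]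
    haveI : Epi f.inv := inferInstanceAs (Epi f.symm.hom)
    haveI : Mono f.inv := inferInstanceAs (Mono f.symm.hom)
    refine (cancel_epi f.inv).mp ((cancel_mono f.inv).mp ?_)
    simp only [Preadditive.add_comp, Preadditive.comp_add, Category.assoc, Iso.inv_hom_id_assoc,
      Iso.hom_inv_id, Category.comp_id]
    rw [hsd, reassoc_of% heps, hsd]

end Groth.Agent.DefoShLib
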